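import Mathlib.GroupTheory.Perm.Support
import Mathlib.Data.Finset.Prod
import Mathlib.Algebra.BigOperators.Group.Finset.Basic
import Mathlib.Algebra.BigOperators.Ring.Finset
import Mathlib.Data.Fintype.Perm
import Mathlib.Tactic

/-!
# Counting in a four-fold transitive permutation group

For a set of permutations `P` four-fold transitive in the sense of `MoveFour`, the number of elements with
prescribed images of `1`, `2`, `3`, `4` points does not depend on the points.
-/

set_option autoImplicit false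

namespace CfsgLib.Perm.JordanSmall

open Equiv Finset
open scoped Classical

variable {α : Type*} [Fintype α] {P : Subgroup (Perm α)}

omit [Fintype α] in
theorem inv_apply_apply (g : Perm α) (v : α) : g⁻¹ (g v) = v := g.symm_apply_apply v

omit [Fintype α] in
theorem apply_inv_apply (g : Perm α) (v : α) : g (g⁻¹ v) = v := g.apply_symm_apply v

/-- Four-fold transitivity, on lists of distinct points. -/
def MoveFour (P : Subgroup (Perm α)) : Prop :=
  ∀ a b c d a' b' c' d' : α, [a, b, c, d].Nodup → [a', b', c', d'].Nodup →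
    ∃ g ∈ P, g a = a' ∧ g b = b' ∧ g c = c' ∧ g d = d'

/-- The elements of `P`, as a finset. -/
noncomputable def elems (P : Subgroup (Perm α)) : Finset (Perm α) :=
  univ.filter fun g => g ∈ P

theorem mem_elems {g : Perm α} : g ∈ elems P ↔ g ∈ P := by simp [elems]

/-- Elements with one prescribed image. -/
noncomputable def hit1 (P : Subgroup (Perm α)) (a a' : α) : Finset (Perm α) :=
  (elems P).filter fun g => g a = a'

/-- Elements with two prescribed images. -/
noncomputable def hit2 (P : Subgroup (Perm α)) (a b a' b' : α) : Finset (Perm α) :=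
  (hit1 P a a').filter fun g => g b = b'

/-- Elements with three prescribed images. -/
noncomputable def hit3 (P : Subgroup (Perm α)) (a b c a' b' c' : α) : Finset (Perm α) :=
  (hit2 P a b a' b').filter fun g => g c = c'

/-- Elements with four prescribed images. -/
noncomputable def hit4 (P : Subgroup (Perm α)) (a b c d a' b' c' d' : α) : Finset (Perm α) :=
  (hit3 P a b c a' b' c').filter fun g => g d = d'

theorem card_hit4 (hM : MoveFour P) {a b c d a' b' c' d' p q r s p' q' r' s' : α}
    (h1 : [a, b, c, d].Nodup) (h1' : [a', b', c', d'].Nodup)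
    (h2 : [p, q, r, s].Nodup) (h2' : [p', q', r', s'].Nodup) :
    (hit4 P a b c d a' b' c' d').card = (hit4 P p q r s p' q' r' s').card := by
  obtain ⟨k, hk, ka, kb, kc, kd⟩ := hM p q r s a b c d h2 h1
  obtain ⟨h, hh, hp, hq, hr, hs⟩ := hM a' b' c' d' p' q' r' s' h1' h2'
  refine Finset.card_bij' (fun g _ => h * g * k) (fun g _ => h⁻¹ * g * k⁻¹) ?_ ?_
    (fun g _ => by group) (fun g _ => by group)
  · intro g hg
    simp only [hit4, hit3, hit2, hit1, mem_filter, mem_elems] at hg ⊢
    obtain ⟨⟨⟨⟨hgP, ga⟩, gb⟩, gc⟩, gd⟩ := hg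
    refine ⟨⟨⟨⟨mul_mem (mul_mem hh hgP) hk, ?_⟩, ?_⟩, ?_⟩, ?_⟩ <;>
      simp only [Perm.mul_apply, ka, kb, kc, kd, ga, gb, gc, gd, hp, hq, hr, hs]
  · intro g hg
    simp only [hit4, hit3, hit2, hit1, mem_filter, mem_elems] at hg ⊢
    obtain ⟨⟨⟨⟨hgP, ga⟩, gb⟩, gc⟩, gd⟩ := hg
    refine ⟨⟨⟨⟨mul_mem (mul_mem (inv_mem hh) hgP) (inv_mem hk), ?_⟩, ?_⟩, ?_⟩, ?_⟩ <;>
      simp only [Perm.mul_apply]
    · rw [show k⁻¹ a = p from Perm.inv_eq_iff_eq.2 ka.symm, ga]; exact Perm.inv_eq_iff_eq.2 hp.symm
    · rw [show k⁻¹ b = q from Perm.inv_eq_iff_eq.2 kb.symm, gb]; exact Perm.inv_eq_iff_eq.2 hq.symm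
    · rw [show k⁻¹ c = r from Perm.inv_eq_iff_eq.2 kc.symm, gc]; exact Perm.inv_eq_iff_eq.2 hr.symm
    · rw [show k⁻¹ d = s from Perm.inv_eq_iff_eq.2 kd.symm, gd]; exact Perm.inv_eq_iff_eq.2 hs.symm

/-- The counts of elements with prescribed images. -/
structure Counts (P : Subgroup (Perm α)) (e : ℕ) : Prop where
  pos : 0 < e
  four : ∀ a b c d a' b' c' d' : α, [a, b, c, d].Nodup → [a', b', c', d'].Nodup →
    (hit4 P a b c d a' b' c' d').card = e
  three : ∀ a b c a' b' c' : α, [a, b, c].Nodup → [a', b', c'].Nodup →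
    (hit3 P a b c a' b' c').card = (Fintype.card α - 3) * e
  two : ∀ a b a' b' : α, a ≠ b → a' ≠ b' →
    (hit2 P a b a' b').card = (Fintype.card α - 2) * ((Fintype.card α - 3) * e)
  one : ∀ a a' : α,
    (hit1 P a a').card =
      (Fintype.card α - 1) * ((Fintype.card α - 2) * ((Fintype.card α - 3) * e))

theorem exists_outside (s : Finset α) (h : s.card < Fintype.card α) : ∃ d, d ∉ s :=
  exists_mem_notMem_of_card_lt_card (t := univ) (by rwa [card_univ]) |>.imp fun _ h => h.2

theorem nodup_three {a b c : α} (h : [a, b, c].Nodup) : a ≠ b ∧ a ≠ c ∧ b ≠ c := by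
  simp at h; tauto

theorem exists_counts (hM : MoveFour P) (h4 : 4 ≤ Fintype.card α) : ∃ e, Counts P e := by
  obtain ⟨a₀, -⟩ := exists_outside (∅ : Finset α) (by rw [card_empty]; omega)
  obtain ⟨b₀, hb₀⟩ := exists_outside ({a₀} : Finset α) (by rw [card_singleton]; omega)
  obtain ⟨c₀, hc₀⟩ := exists_outside ({a₀, b₀} : Finset α) (card_le_two.trans_lt (by omega))
  obtain ⟨d₀, hd₀⟩ := exists_outside ({a₀, b₀, c₀} : Finset α) (card_le_three.trans_lt (by omega))
  simp only [mem_singleton, mem_insert, not_or] at hb₀ hc₀ hd₀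
  have h0 : [a₀, b₀, c₀, d₀].Nodup := by simp; tauto
  have hfour : ∀ a b c d a' b' c' d' : α, [a, b, c, d].Nodup → [a', b', c', d'].Nodup →
      (hit4 P a b c d a' b' c' d').card = (hit4 P a₀ b₀ c₀ d₀ a₀ b₀ c₀ d₀).card :=
    fun a b c d a' b' c' d' h h' => card_hit4 hM h h' h0 h0
  set e := (hit4 P a₀ b₀ c₀ d₀ a₀ b₀ c₀ d₀).card
  have hthree : ∀ a b c a' b' c' : α, [a, b, c].Nodup → [a', b', c'].Nodup →
      (hit3 P a b c a' b' c').card = (Fintype.card α - 3) * e := by
    intro a b c a' b' c' h h'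
    obtain ⟨hab, hac, hbc⟩ := nodup_three h
    obtain ⟨hab', hac', hbc'⟩ := nodup_three h'
    obtain ⟨d, hd⟩ := exists_outside ({a, b, c} : Finset α) (card_le_three.trans_lt (by omega))
    simp only [mem_insert, mem_singleton, not_or] at hd
    have hmem : ∀ g ∈ hit3 P a b c a' b' c', g d ∈ ({a', b', c'} : Finset α)ᶜ := by
      intro g hg
      simp only [hit3, hit2, hit1, mem_filter] at hg
      obtain ⟨⟨⟨-, ga⟩, gb⟩, gc⟩ := hg
      simp only [mem_compl, mem_insert, mem_singleton, ← ga, ← gb, ← gc, g.injective.eq_iff,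
        not_or]
      exact hd
    have hfib : ∀ d' ∈ ({a', b', c'} : Finset α)ᶜ,
        ((hit3 P a b c a' b' c').filter fun g => g d = d').card = e := by
      intro d' hd'
      simp only [mem_compl, mem_insert, mem_singleton, not_or] at hd'
      exact hfour a b c d a' b' c' d' (by simp; tauto) (by simp; tauto)
    rw [card_eq_sum_card_fiberwise hmem, sum_congr rfl hfib, sum_const, card_compl, smul_eq_mul,
      card_insert_of_notMem (by simp [hab', hac']), card_insert_of_notMem (by simp [hbc']),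
      card_singleton]
  have htwo : ∀ a b a' b' : α, a ≠ b → a' ≠ b' →
      (hit2 P a b a' b').card = (Fintype.card α - 2) * ((Fintype.card α - 3) * e) := by
    intro a b a' b' hab hab'
    obtain ⟨c, hc⟩ := exists_outside ({a, b} : Finset α) (card_le_two.trans_lt (by omega))
    simp only [mem_insert, mem_singleton, not_or] at hc
    have hmem : ∀ g ∈ hit2 P a b a' b', g c ∈ ({a', b'} : Finset α)ᶜ := by
      intro g hg
      simp only [hit2, hit1, mem_filter] at hg
      obtain ⟨⟨-, ga⟩, gb⟩ := hg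
      simp only [mem_compl, mem_insert, mem_singleton, ← ga, ← gb, g.injective.eq_iff, not_or]
      exact hc
    have hfib : ∀ c' ∈ ({a', b'} : Finset α)ᶜ,
        ((hit2 P a b a' b').filter fun g => g c = c').card = (Fintype.card α - 3) * e := by
      intro c' hc'
      simp only [mem_compl, mem_insert, mem_singleton, not_or] at hc'
      exact hthree a b c a' b' c' (by simp; tauto) (by simp; tauto)
    rw [card_eq_sum_card_fiberwise hmem, sum_congr rfl hfib, sum_const, card_compl, smul_eq_mul,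
      card_pair hab']
  refine ⟨e, ?_, hfour, hthree, htwo, fun a a' => ?_⟩
  · exact card_pos.2 ⟨1, by simp [hit4, hit3, hit2, hit1, mem_elems, one_mem]⟩
  · obtain ⟨b, hb⟩ := exists_outside ({a} : Finset α) (by rw [card_singleton]; omega)
    rw [mem_singleton] at hb
    have hmem : ∀ g ∈ hit1 P a a', g b ∈ ({a'} : Finset α)ᶜ := by
      intro g hg
      simp only [hit1, mem_filter] at hg
      simp only [mem_compl, mem_singleton, ← hg.2, g.injective.eq_iff]
      exact hb
    have hfib : ∀ b' ∈ ({a'} : Finset α)ᶜ, ((hit1 P a a').filter fun g => g b = b').card =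
        (Fintype.card α - 2) * ((Fintype.card α - 3) * e) := by
      intro b' hb'
      simp only [mem_compl, mem_singleton] at hb'
      exact htwo a b a' b' (Ne.symm hb) (Ne.symm hb')
    rw [card_eq_sum_card_fiberwise hmem, sum_congr rfl hfib, sum_const, card_compl, smul_eq_mul,
      card_singleton]

/-- Reversing the direction: `g ↦ g⁻¹`. -/
theorem card_filter_hit2_inv (a b a' b' : α) (Q : Perm α → Prop) [DecidablePred Q] :
    ((hit2 P a b a' b').filter fun g => Q g⁻¹).card = ((hit2 P a' b' a b).filter Q).card := by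
  refine Finset.card_bij' (fun g _ => g⁻¹) (fun g _ => g⁻¹) ?_ ?_
    (fun g _ => inv_inv g) (fun g _ => inv_inv g)
  · intro g hg
    simp only [hit2, hit1, mem_filter, mem_elems] at hg ⊢
    obtain ⟨⟨⟨hgP, ga⟩, gb⟩, hQ⟩ := hg
    refine ⟨⟨⟨inv_mem hgP, ?_⟩, ?_⟩, hQ⟩ <;> rw [Perm.inv_eq_iff_eq] <;> first | exact ga.symm | exact gb.symm
  · intro g hg
    simp only [hit2, hit1, mem_filter, mem_elems] at hg ⊢
    obtain ⟨⟨⟨hgP, ga⟩, gb⟩, hQ⟩ := hg
    refine ⟨⟨⟨inv_mem hgP, ?_⟩, ?_⟩, by rwa [inv_inv]⟩ <;> rw [Perm.inv_eq_iff_eq] <;>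
      first | exact ga.symm | exact gb.symm

/-- The elements with two prescribed images taking a third point into `X`. -/
theorem card_hit2_one {e : ℕ} (hC : Counts P e) {a b a' b' v : α} (hab' : a' ≠ b')
    (hv : [a, b, v].Nodup) {X : Finset α} (hX : a' ∉ X ∧ b' ∉ X) :
    ((hit2 P a b a' b').filter fun g => g v ∈ X).card = X.card * ((Fintype.card α - 3) * e) := by
  have hfib : ∀ v' ∈ X, (((hit2 P a b a' b').filter fun g => g v ∈ X).filter fun g => g v = v').card =
      (Fintype.card α - 3) * e := by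
    intro v' hv'
    rw [filter_filter, ← hC.three a b v a' b' v' hv (by
      simp only [List.nodup_cons, List.mem_cons, List.not_mem_nil, or_false, not_or, not_false_iff,
        List.nodup_nil, and_true]
      exact ⟨⟨hab', fun h => hX.1 (h ▸ hv')⟩, fun h => hX.2 (h ▸ hv')⟩)]
    refine congrArg card (filter_congr fun g _ => ?_)
    exact ⟨fun h => h.2, fun h => ⟨h ▸ hv', h⟩⟩
  rw [card_eq_sum_card_fiberwise (s := (hit2 P a b a' b').filter fun g => g v ∈ X)
    (f := fun g : Perm α => g v) (t := X) (fun g hg => (mem_filter.1 hg).2), sum_congr rfl hfib, sum_const, smul_eq_mul]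

/-- The elements with two prescribed images taking two further points into disjoint sets. -/
theorem card_hit2_two {e : ℕ} (hC : Counts P e) {a b a' b' v w : α} (hab' : a' ≠ b')
    (hvw : [a, b, v, w].Nodup) {X Y : Finset α} (hX : a' ∉ X ∧ b' ∉ X) (hY : a' ∉ Y ∧ b' ∉ Y)
    (hXY : Disjoint X Y) :
    ((hit2 P a b a' b').filter fun g => g v ∈ X ∧ g w ∈ Y).card = X.card * Y.card * e := by
  have hfib : ∀ q ∈ X ×ˢ Y,
      (((hit2 P a b a' b').filter fun g => g v ∈ X ∧ g w ∈ Y).filter
        fun g => (g v, g w) = q).card = e := by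
    rintro ⟨v', w'⟩ hq
    obtain ⟨hv', hw'⟩ := mem_product.1 hq
    rw [← hC.four a b v w a' b' v' w' hvw (by
      simp only [List.nodup_cons, List.mem_cons, List.not_mem_nil, or_false, not_or, not_false_iff,
        List.nodup_nil, and_true]
      exact ⟨⟨hab', fun h => hX.1 (h ▸ hv'), fun h => hY.1 (h ▸ hw')⟩,
        ⟨fun h => hX.2 (h ▸ hv'), fun h => hY.2 (h ▸ hw')⟩,
        fun h => disjoint_left.1 hXY hv' (h ▸ hw')⟩), hit4, hit3, filter_filter, filter_filter]
    refine congrArg card (filter_congr fun g _ => ?_)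
    rw [Prod.mk.injEq]
    exact ⟨fun h => h.2, fun h => ⟨⟨h.1 ▸ hv', h.2 ▸ hw'⟩, h⟩⟩
  rw [card_eq_sum_card_fiberwise (s := (hit2 P a b a' b').filter fun g => g v ∈ X ∧ g w ∈ Y)
    (f := fun g : Perm α => (g v, g w)) (t := X ×ˢ Y)
    (fun g hg => mem_product.2 (mem_filter.1 hg).2), sum_congr rfl hfib, sum_const, smul_eq_mul,
    card_product]

omit [Fintype α] in
/-- Summing the sizes of filtered sets by points. -/
theorem sum_card_filter (T : Finset (Perm α)) (R : Finset α) (Q : Perm α → α → Prop)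
    [∀ g v, Decidable (Q g v)] :
    ∑ g ∈ T, (R.filter (Q g)).card = ∑ v ∈ R, (T.filter fun g => Q g v).card := by
  simp only [card_filter]
  exact sum_comm

end CfsgLib.Perm.JordanSmall
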