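import Cfsg.Agent.Lib.Perm.JordanSmall.Counting

/-!
# Elements of small support in a four-fold transitive group

A commutator of an element of smallest support `s` with a suitable conjugate has smaller support on average
when the degree is at least `2 s + 3`.
-/

set_option autoImplicit false

namespace CfsgLib.Perm.JordanSmall

open Equiv Finset
open scoped Classical

variable {α : Type*} [Fintype α]

/-- The support of a commutator, for supports inside `S` and `S'`. -/
theorem support_comm_subset {x y : Perm α} {S S' : Finset α} (hx : ∀ v ∉ S, x v = v)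
    (hy : ∀ v ∉ S', y v = v) :
    (x * y * x⁻¹ * y⁻¹).support ⊆ ((S ∩ S').filter fun v => (x * y * x⁻¹ * y⁻¹) v ≠ v) ∪
      ((S ∩ S').filter fun v => x v ∉ S').image x ∪ ((S ∩ S').filter fun v => y v ∉ S).image y := by
  intro p hp
  rw [Perm.mem_support] at hp
  simp only [mem_union, mem_filter, mem_image, mem_inter]
  have hxinv : ∀ v ∉ S, x⁻¹ v = v := fun v hv => Perm.inv_eq_iff_eq.2 (hx v hv).symm
  have hyinv : ∀ v ∉ S', y⁻¹ v = v := fun v hv => Perm.inv_eq_iff_eq.2 (hy v hv).symm
  by_cases hpS : p ∈ S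
  · by_cases hpS' : p ∈ S'
    · exact Or.inl (Or.inl ⟨⟨hpS, hpS'⟩, hp⟩)
    · left; right
      set q := x⁻¹ p with hq
      have hxq : x q = p := apply_inv_apply x p
      have hqS : q ∈ S := by
        by_contra h
        have : x q = q := hx q h
        exact h (by rw [← this, hxq]; exact hpS)
      by_cases hqS' : q ∈ S'
      · exact ⟨q, ⟨⟨hqS, hqS'⟩, by rwa [hxq]⟩, hxq⟩
      · exfalso
        refine hp ?_
        rw [Perm.mul_apply, Perm.mul_apply, Perm.mul_apply, hyinv p hpS', ← hq, hy q hqS', hxq]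
  · by_cases hpS' : p ∈ S'
    · right
      set q := y⁻¹ p with hq
      have hyq : y q = p := apply_inv_apply y p
      have hqS' : q ∈ S' := by
        by_contra h
        have : y q = q := hy q h
        exact h (by rw [← this, hyq]; exact hpS')
      by_cases hqS : q ∈ S
      · exact ⟨q, ⟨⟨hqS, hqS'⟩, by rwa [hyq]⟩, hyq⟩
      · exfalso
        refine hp ?_
        rw [Perm.mul_apply, Perm.mul_apply, Perm.mul_apply, ← hq, hxinv q hqS, hyq, hx p hpS]
    · exfalso
      refine hp ?_
      rw [Perm.mul_apply, Perm.mul_apply, Perm.mul_apply, hyinv p hpS', hxinv p hpS, hy p hpS',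
        hx p hpS]

/-- The points of `x` fixed by the commutator with `g x g⁻¹`. -/
noncomputable def commonPairs (x g : Perm α) : Finset α :=
  x.support.filter fun v => g v ∈ x.support ∧ g (x v) = x (g v)

/-- The pointwise bound for one conjugating element. -/
theorem support_le {x g : Perm α} :
    (x * (g * x * g⁻¹) * x⁻¹ * (g * x * g⁻¹)⁻¹).support.card +
        (if ∀ v, x (x v) = v then (commonPairs x g).card else 0) ≤
      (x.support.filter fun v => g v ∈ x.support).card +
        (x.support.filter fun p => g⁻¹ p ∈ x.support ∧ g⁻¹ (x p) ∉ x.support).card +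
        (x.support.filter fun v => g v ∈ x.support ∧ g (x v) ∉ x.support).card := by
  set S := x.support with hS
  set y := g * x * g⁻¹ with hy
  set z := x * y * x⁻¹ * y⁻¹ with hz
  have hxS : ∀ v ∉ S, x v = v := fun v hv => Perm.notMem_support.1 hv
  have hyS : ∀ v ∉ S.image g, y v = v := by
    intro v hv
    have : g⁻¹ v ∉ S := fun h => hv (mem_image.2 ⟨_, h, apply_inv_apply g v⟩)
    rw [hy, Perm.mul_apply, Perm.mul_apply, hxS _ this, apply_inv_apply g]
  have hsub := card_le_card (support_comm_subset hxS hyS)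
  simp only [← hz] at hsub
  have hI : S ∩ S.image g = (S.filter fun v => g v ∈ S).image g := by
    ext p
    simp only [mem_inter, mem_image, mem_filter]
    constructor
    · rintro ⟨hp, v, hv, rfl⟩; exact ⟨v, ⟨hv, hp⟩, rfl⟩
    · rintro ⟨v, ⟨hv, hgv⟩, rfl⟩; exact ⟨hgv, v, hv, rfl⟩
  have hIc : (S ∩ S.image g).card = (S.filter fun v => g v ∈ S).card := by
    rw [hI, card_image_of_injective _ g.injective]
  have hA : ((S ∩ S.image g).filter fun v => x v ∉ S.image g).card ≤
      (S.filter fun p => g⁻¹ p ∈ S ∧ g⁻¹ (x p) ∉ S).card := by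
    refine card_le_card fun p hp => ?_
    simp only [mem_filter, mem_inter, mem_image] at hp ⊢
    obtain ⟨⟨hp, v, hv, rfl⟩, hx⟩ := hp
    exact ⟨hp, by rwa [inv_apply_apply g v], fun h => hx ⟨_, h, apply_inv_apply g _⟩⟩
  have hB : ((S ∩ S.image g).filter fun v => y v ∉ S).card ≤
      (S.filter fun v => g v ∈ S ∧ g (x v) ∉ S).card := by
    refine le_trans (card_le_card (t := (S.filter fun v => g v ∈ S ∧ g (x v) ∉ S).image g)
      (fun p hp => ?_)) card_image_le
    simp only [mem_filter, mem_inter, mem_image] at hp ⊢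
    obtain ⟨⟨hp, v, hv, rfl⟩, hy'⟩ := hp
    refine ⟨v, ⟨hv, hp, ?_⟩, rfl⟩
    simpa [hy] using hy'
  have hfix : ((S ∩ S.image g).filter fun v => z v ≠ v).card +
      (if ∀ v, x (x v) = v then (commonPairs x g).card else 0) ≤
      (S.filter fun v => g v ∈ S).card := by
    split_ifs with hinv
    · rw [← hIc, ← card_image_of_injective (commonPairs x g) g.injective,
        ← card_union_of_disjoint]
      · refine card_le_card (union_subset (filter_subset _ _) fun p hp => ?_)
        simp only [commonPairs, mem_image, mem_filter] at hp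
        obtain ⟨v, ⟨hv, hgv, -⟩, rfl⟩ := hp
        exact mem_inter.2 ⟨hgv, mem_image_of_mem _ hv⟩
      · refine disjoint_left.2 fun p hp hp' => ?_
        simp only [commonPairs, mem_image, mem_filter] at hp'
        obtain ⟨v, ⟨-, -, he⟩, rfl⟩ := hp'
        refine (mem_filter.1 hp).2 ?_
        have hxi : ∀ w, x⁻¹ w = x w := fun w => Perm.inv_eq_iff_eq.2 (hinv w).symm
        have hyi : y⁻¹ (g v) = g (x v) := by
          rw [Perm.inv_eq_iff_eq, hy, Perm.mul_apply, Perm.mul_apply, inv_apply_apply g, hinv]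
        rw [hz, Perm.mul_apply, Perm.mul_apply, Perm.mul_apply, hyi, hxi, he, hinv,
          hy, Perm.mul_apply, Perm.mul_apply, inv_apply_apply g, he, hinv]
    · rw [add_zero, ← hIc]
      exact card_filter_le _ _
  have h1 := card_union_le (((S ∩ S.image g).filter fun v => z v ≠ v) ∪
    ((S ∩ S.image g).filter fun v => x v ∉ S.image g).image x)
    (((S ∩ S.image g).filter fun v => y v ∉ S).image y)
  have h2 := card_union_le ((S ∩ S.image g).filter fun v => z v ≠ v)
    (((S ∩ S.image g).filter fun v => x v ∉ S.image g).image x)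
  have h3 := card_image_le (f := x) (s := (S ∩ S.image g).filter fun v => x v ∉ S.image g)
  have h4 := card_image_le (f := y) (s := (S ∩ S.image g).filter fun v => y v ∉ S)
  omega

variable {P : Subgroup (Perm α)}

/-- The averaged bound, as an inequality in `n` and `s`. -/
theorem average_bound (hM : MoveFour P) (hn : 4 ≤ Fintype.card α) {x : Perm α} (hx : x ∈ P)
    {s : ℕ} (hs : x.support.card = s)
    (hmin : ∀ h ∈ P, h ≠ 1 → s ≤ h.support.card) (hs3 : 3 ≤ s) (hns : s < Fintype.card α)
    {a : α} (ha : a ∈ x.support) :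
    (x (x a) ≠ a →
      (s : ℤ) * ((Fintype.card α - 2) * (Fintype.card α - 3)) ≤
        2 * ((Fintype.card α - 2) * (Fintype.card α - 3)) + (s - 2) * (s - 1) * (Fintype.card α - 3) +
          (s - 3) * (s - 1) * (Fintype.card α - s - 1) + (Fintype.card α - s) * (Fintype.card α - 3) +
          (s - 2) * (s - 2) * (Fintype.card α - s)) ∧
    ((∀ v, x (x v) = v) →
      (s : ℤ) * ((Fintype.card α - 2) * (Fintype.card α - 3)) + (s - 2) * (s - 2) ≤
        2 * ((Fintype.card α - 2) * (Fintype.card α - 3)) + (s - 2) * (s - 1) * (Fintype.card α - 3) +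
          (s - 2) * (s - 1) * (Fintype.card α - s - 1) + (Fintype.card α - s) * (Fintype.card α - 3) +
          (s - 2) * (s - 2) * (Fintype.card α - s)) := by
  obtain ⟨e, hC⟩ := exists_counts hM hn
  set S := x.support with hS
  obtain ⟨β, hβ⟩ := exists_outside S (by omega)
  set n := Fintype.card α with hn'
  have hxa : x a ∈ S := Perm.apply_mem_support.2 ha
  have hne : x a ≠ a := Perm.mem_support.1 ha
  have hβa : β ≠ a := fun h => hβ (h ▸ ha)
  have hβxa : β ≠ x a := fun h => hβ (h ▸ hxa)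
  have hxS : ∀ v ∈ S, x v ∈ S := fun v hv => Perm.apply_mem_support.2 hv
  set T := hit2 P a β a (x a) with hT
  set T' := hit2 P a (x a) a β with hT'
  have hTc : T.card = (n - 2) * ((n - 3) * e) := hC.two a β a (x a) hβa.symm hne.symm
  have hT'c : T'.card = (n - 2) * ((n - 3) * e) := hC.two a (x a) a β hne.symm hβa.symm
  -- every term is at least `s`
  have hkey : ∀ g ∈ T, s + (if ∀ v, x (x v) = v then (commonPairs x g).card else 0) ≤
      (S.filter fun v => g v ∈ S).card +
        (S.filter fun p => g⁻¹ p ∈ S ∧ g⁻¹ (x p) ∉ S).card +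
        (S.filter fun v => g v ∈ S ∧ g (x v) ∉ S).card := by
    intro g hg
    simp only [hT, hit2, hit1, mem_filter, mem_elems] at hg
    obtain ⟨⟨hgP, hga⟩, hgb⟩ := hg
    refine le_trans (Nat.add_le_add_right ?_ _) support_le
    refine hmin _ (mul_mem (mul_mem (mul_mem hx (mul_mem (mul_mem hgP hx) (inv_mem hgP))) (inv_mem hx))
      (inv_mem (mul_mem (mul_mem hgP hx) (inv_mem hgP)))) fun h1 => ?_
    set y := g * x * g⁻¹ with hy
    have hcomm : x * y = y * x := by
      rw [mul_inv_eq_one, mul_inv_eq_iff_eq_mul] at h1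
      exact h1
    have hyxa : y (x a) = x a := by
      rw [hy, Perm.mul_apply, Perm.mul_apply, show g⁻¹ (x a) = β from Perm.inv_eq_iff_eq.2 hgb.symm,
        Perm.notMem_support.1 hβ, hgb]
    have hya : y a ≠ a := by
      rw [hy, Perm.mul_apply, Perm.mul_apply, show g⁻¹ a = a from Perm.inv_eq_iff_eq.2 hga.symm]
      intro h
      exact hne (g.injective (h.trans hga.symm))
    have h2 := congrArg (fun f : Perm α => f a) hcomm
    simp only [Perm.mul_apply] at h2
    rw [hyxa] at h2
    exact hya (x.injective h2)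
  have hsum := sum_le_sum hkey
  rw [sum_add_distrib, sum_add_distrib, sum_add_distrib, sum_const, smul_eq_mul, hTc,
    sum_card_filter T S (fun g v => g v ∈ S),
    sum_card_filter T S (fun g p => g⁻¹ p ∈ S ∧ g⁻¹ (x p) ∉ S),
    sum_card_filter T S (fun g v => g v ∈ S ∧ g (x v) ∉ S)] at hsum
  -- the sets with `a` and `x a` removed
  set R := (S.erase a).erase (x a) with hR
  have hRc : R.card = s - 2 := by
    rw [hR, card_erase_of_mem (mem_erase.2 ⟨hne, hxa⟩), card_erase_of_mem ha, hs]; rfl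
  have hsplit : ∀ f : α → ℕ, ∑ v ∈ S, f v = f a + (f (x a) + ∑ v ∈ R, f v) := fun f => by
    rw [hR, add_sum_erase _ f (mem_erase.2 ⟨hne, hxa⟩), add_sum_erase _ f ha]
  have hRmem : ∀ v ∈ R, v ∈ S ∧ v ≠ a ∧ v ≠ x a := fun v hv => by
    simp only [hR, mem_erase] at hv; exact ⟨hv.2.2, hv.2.1, hv.1⟩
  have hSa : (S.erase a).card = s - 1 := by rw [card_erase_of_mem ha, hs]
  have hout : (univ \ S).card = n - s := by rw [card_univ_sdiff, hs]
  have houtβ : ((univ \ S).erase β).card = n - s - 1 := by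
    rw [card_erase_of_mem (mem_sdiff.2 ⟨mem_univ β, hβ⟩), hout]
  -- the first sum
  have hI : ∑ v ∈ S, (T.filter fun g => g v ∈ S).card ≤
      (n - 2) * ((n - 3) * e) + (s - 2) * ((s - 1) * ((n - 3) * e)) := by
    have hflip : ∑ v ∈ S, (T.filter fun g => g v ∈ S).card =
        ∑ p ∈ S, (T'.filter fun g => g p ∈ S).card := by
      rw [← sum_card_filter T S (fun g v => g v ∈ S),
        show ∑ g ∈ T, (S.filter fun v => g v ∈ S).card =
          ∑ g ∈ T, (S.filter fun p => g⁻¹ p ∈ S).card from sum_congr rfl fun g _ => by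
            refine card_bij' (fun v _ => g v) (fun p _ => g⁻¹ p) ?_ ?_
              (fun v _ => inv_apply_apply g v) (fun p _ => apply_inv_apply g p)
            · intro v hv; simp only [mem_filter] at hv ⊢; exact ⟨hv.2, by rw [inv_apply_apply g]; exact hv.1⟩
            · intro v hv; simp only [mem_filter] at hv ⊢; exact ⟨hv.2, by rw [apply_inv_apply g]; exact hv.1⟩,
        sum_card_filter T S (fun g p => g⁻¹ p ∈ S)]
      exact sum_congr rfl fun p _ => card_filter_hit2_inv a β a (x a) (fun g => g p ∈ S)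
    rw [hflip, hsplit]
    refine Nat.add_le_add (le_of_le_of_eq (card_filter_le _ _) hT'c) ?_
    rw [show (T'.filter fun g => g (x a) ∈ S) = ∅ from filter_eq_empty_iff.2 fun g hg h => by
      simp only [hT', hit2, mem_filter] at hg
      exact hβ (hg.2 ▸ h), card_empty, zero_add]
    refine (sum_le_card_nsmul R _ _ fun p hp => le_of_eq ?_).trans (by rw [hRc, smul_eq_mul])
    obtain ⟨hpS, hpa, hpxa⟩ := hRmem p hp
    rw [← hSa, ← card_hit2_one hC (P := P) (a := a) (b := x a) (a' := a) (b' := β) (v := p)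
      hβa.symm (by simp; exact ⟨⟨hne.symm, hpa.symm⟩, hpxa.symm⟩) (X := S.erase a)
      ⟨notMem_erase a S, fun h => hβ (mem_of_mem_erase h)⟩]
    refine congrArg card (filter_congr fun g hg => ?_)
    simp only [hT', hit2, hit1, mem_filter] at hg
    exact ⟨fun h => mem_erase.2 ⟨fun h' => hpa (g.injective (h'.trans hg.1.2.symm)), h⟩,
      mem_of_mem_erase⟩
  -- the third sum
  have hB : ∑ v ∈ S, (T.filter fun g => g v ∈ S ∧ g (x v) ∉ S).card ≤
      (n - s) * ((n - 3) * e) + (s - 2) * ((s - 2) * (n - s) * e) := by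
    -- `v = a` and the points other than `a`, `x⁻¹ a`
    set v₀ := x⁻¹ a with hv₀
    have hxv₀ : x v₀ = a := apply_inv_apply x a
    have hv₀S : v₀ ∈ S := by
      rw [hS, Perm.mem_support, hxv₀]
      intro h
      exact hne (by conv_lhs => rw [h]; exact hxv₀)
    have hv₀a : v₀ ≠ a := fun h => hne (by rwa [h] at hxv₀)
    rw [← add_sum_erase _ _ ha, ← add_sum_erase _ _ (mem_erase.2 ⟨hv₀a, hv₀S⟩)]
    refine Nat.add_le_add ?_ ?_
    · rw [← hout, ← card_hit2_one hC (P := P) (a := a) (b := β) (a' := a) (b' := x a) (v := x a)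
        hne.symm (by simp; exact ⟨⟨hβa.symm, hne.symm⟩, hβxa⟩) (X := univ \ S)
        ⟨fun h => (mem_sdiff.1 h).2 ha, fun h => (mem_sdiff.1 h).2 hxa⟩]
      refine card_le_card fun g hg => ?_
      simp only [mem_filter, mem_sdiff, mem_univ, true_and] at hg ⊢
      exact ⟨hg.1, hg.2.2⟩
    rw [show (T.filter fun g => g v₀ ∈ S ∧ g (x v₀) ∉ S) = ∅ from filter_eq_empty_iff.2 fun g hg h => by
      simp only [hT, hit2, hit1, mem_filter] at hg
      exact h.2 (by rw [hxv₀, hg.1.2]; exact ha), card_empty, zero_add]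
    refine (sum_le_card_nsmul _ _ _ fun v hv => le_of_eq ?_).trans (le_of_eq ?_) (b := ((S.erase a).erase v₀).card • ((s - 2) * (n - s) * e))
    · simp only [mem_erase] at hv
      obtain ⟨hvv₀, hva, hvS⟩ := hv
      have hxva : x v ≠ a := fun h => hvv₀ (x.injective (h.trans hxv₀.symm))
      have hxvβ : x v ≠ β := fun h => hβ (h ▸ hxS v hvS)
      have hvβ : v ≠ β := fun h => hβ (h ▸ hvS)
      have hvx : x v ≠ v := Perm.mem_support.1 hvS
      rw [← hRc, ← hout, ← card_hit2_two hC (P := P) (a := a) (b := β) (a' := a) (b' := x a) (v := v)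
        (w := x v) hne.symm (by simp; exact ⟨⟨hβa.symm, hva.symm, hxva.symm⟩, ⟨hvβ.symm, hxvβ.symm⟩, hvx.symm⟩)
        (X := R) (Y := univ \ S)
        ⟨fun h => (hRmem _ h).2.1 rfl, fun h => (hRmem _ h).2.2 rfl⟩
        ⟨fun h => (mem_sdiff.1 h).2 ha, fun h => (mem_sdiff.1 h).2 hxa⟩
        (disjoint_left.2 fun w hw hw' => (mem_sdiff.1 hw').2 (hRmem w hw).1)]
      refine congrArg card (filter_congr fun g hg => ?_)
      simp only [hT, hit2, hit1, mem_filter] at hg
      simp only [hR, mem_erase, mem_sdiff, mem_univ, true_and]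
      exact ⟨fun h => ⟨⟨fun h' => hvβ (g.injective (h'.trans hg.2.symm)),
        fun h' => hva (g.injective (h'.trans hg.1.2.symm)), h.1⟩, h.2⟩, fun h => ⟨h.1.2.2, h.2⟩⟩
    · rw [smul_eq_mul, card_erase_of_mem (mem_erase.2 ⟨hv₀a, hv₀S⟩), hSa]
      rfl
  -- the middle sum
  have hAflip : ∀ p, (T.filter fun g => g⁻¹ p ∈ S ∧ g⁻¹ (x p) ∉ S).card =
      (T'.filter fun g => g p ∈ S ∧ g (x p) ∉ S).card := fun p =>
    card_filter_hit2_inv a β a (x a) (fun g => g p ∈ S ∧ g (x p) ∉ S)
  have hAgen : ∀ p ∈ R, x p ≠ a → (T'.filter fun g => g p ∈ S ∧ g (x p) ∉ S).card ≤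
      (s - 1) * (n - s - 1) * e := by
    intro p hp hxpa
    obtain ⟨hpS, hpa, hpxa⟩ := hRmem p hp
    have hxpxa : x p ≠ x a := fun h => hpa (x.injective h)
    have hpx : x p ≠ p := Perm.mem_support.1 hpS
    rw [← hSa, ← houtβ, ← card_hit2_two hC (P := P) (a := a) (b := x a) (a' := a) (b' := β) (v := p)
      (w := x p) hβa.symm (by simp; exact ⟨⟨hne.symm, hpa.symm, hxpa.symm⟩, ⟨hpxa.symm, hpa.symm⟩, hpx.symm⟩)
      (X := S.erase a) (Y := (univ \ S).erase β)
      ⟨notMem_erase a S, fun h => hβ (mem_of_mem_erase h)⟩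
      ⟨fun h => (mem_sdiff.1 (mem_of_mem_erase h)).2 ha, notMem_erase β _⟩
      (disjoint_left.2 fun w hw hw' => (mem_sdiff.1 (mem_of_mem_erase hw')).2 (mem_of_mem_erase hw))]
    refine card_le_card fun g hg => ?_
    simp only [hT', hit2, hit1, mem_filter, mem_erase, mem_sdiff, mem_univ, true_and] at hg ⊢
    exact ⟨hg.1, ⟨fun h => hpa (g.injective (h.trans hg.1.1.2.symm)), hg.2.1⟩,
      fun h => hxpxa (g.injective (h.trans hg.1.2.symm)), hg.2.2⟩
  have hA : ∑ p ∈ S, (T.filter fun g => g⁻¹ p ∈ S ∧ g⁻¹ (x p) ∉ S).card ≤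
      (n - 2) * ((n - 3) * e) + ∑ p ∈ R, (T'.filter fun g => g p ∈ S ∧ g (x p) ∉ S).card := by
    rw [sum_congr rfl fun p _ => hAflip p, hsplit,
      show (T'.filter fun g => g (x a) ∈ S ∧ g (x (x a)) ∉ S) = ∅ from filter_eq_empty_iff.2 fun g hg h => by
        simp only [hT', hit2, mem_filter] at hg
        exact hβ (hg.2 ▸ h.1), card_empty, zero_add]
    exact Nat.add_le_add_right (le_of_le_of_eq (card_filter_le _ _) hT'c) _
  have he : (0 : ℤ) < e := by exact_mod_cast hC.pos
  constructor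
  · intro hxxa
    set v₀ := x⁻¹ a with hv₀
    have hxv₀ : x v₀ = a := apply_inv_apply x a
    have hv₀R : v₀ ∈ R := by
      simp only [hR, mem_erase]
      refine ⟨fun h => hxxa (by rw [← h]; exact hxv₀), fun h => hne (by rwa [h] at hxv₀), ?_⟩
      rw [hS, Perm.mem_support, hxv₀]
      intro h
      exact hne (by conv_lhs => rw [h]; exact hxv₀)
    have hA' : ∑ p ∈ R, (T'.filter fun g => g p ∈ S ∧ g (x p) ∉ S).card ≤
        (s - 3) * ((s - 1) * (n - s - 1) * e) := by
      rw [← add_sum_erase _ _ hv₀R,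
        show (T'.filter fun g => g v₀ ∈ S ∧ g (x v₀) ∉ S) = ∅ from filter_eq_empty_iff.2 fun g hg h => by
          simp only [hT', hit2, hit1, mem_filter] at hg
          exact h.2 (by rw [hxv₀, hg.1.2]; exact ha), card_empty, zero_add]
      refine (sum_le_card_nsmul _ _ _ fun p hp => hAgen p (mem_of_mem_erase hp) fun h =>
        (mem_erase.1 hp).1 (x.injective (h.trans hxv₀.symm))).trans (le_of_eq ?_)
      rw [smul_eq_mul, card_erase_of_mem hv₀R, hRc]; rfl
    have hnat : (n - 2) * ((n - 3) * e) * s ≤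
        ((n - 2) * ((n - 3) * e) + (s - 2) * ((s - 1) * ((n - 3) * e))) +
          ((n - 2) * ((n - 3) * e) + (s - 3) * ((s - 1) * (n - s - 1) * e)) +
          ((n - s) * ((n - 3) * e) + (s - 2) * ((s - 2) * (n - s) * e)) := by omega
    zify [show 2 ≤ n by omega, show 3 ≤ n by omega, show s ≤ n by omega, show 2 ≤ s by omega,
      show 1 ≤ s by omega, show 3 ≤ s by omega, show 1 ≤ n - s by omega] at hnat
    refine le_of_mul_le_mul_left ?_ he
    linarith [hnat]
  · intro hinv
    have hC' : (s - 2) * ((s - 2) * e) ≤ ∑ g ∈ T, (commonPairs x g).card := by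
      simp only [commonPairs]
      rw [sum_card_filter T S (fun g v => g v ∈ S ∧ g (x v) = x (g v)), hsplit]
      refine le_trans ?_ (le_trans (Nat.le_add_left _ _) (Nat.le_add_left _ _))
      refine le_trans (le_of_eq (by rw [hRc, smul_eq_mul])) (card_nsmul_le_sum R _ ((s - 2) * e) fun v hv => ?_)
      obtain ⟨hvS, hva, hvxa⟩ := hRmem v hv
      have hxva : x v ≠ a := fun h => hvxa (by rw [← h, hinv])
      have hxvβ : x v ≠ β := fun h => hβ (h ▸ hxS v hvS)
      have hvβ : v ≠ β := fun h => hβ (h ▸ hvS)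
      have hvx : x v ≠ v := Perm.mem_support.1 hvS
      have hfib : ∀ p ∈ R, e ≤ (((T.filter fun g => g v ∈ S ∧ g (x v) = x (g v))).filter
          fun g => g v = p).card := by
        intro p hp
        obtain ⟨hpS, hpa, hpxa⟩ := hRmem p hp
        have hxpa : x p ≠ a := fun h => hpxa (by rw [← h, hinv])
        have hxpxa : x p ≠ x a := fun h => hpa (x.injective h)
        refine le_of_eq_of_le (hC.four a β v (x v) a (x a) p (x p)
          (by simp; exact ⟨⟨hβa.symm, hva.symm, hxva.symm⟩, ⟨hvβ.symm, hxvβ.symm⟩, hvx.symm⟩)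
          (by simp; exact ⟨⟨hne.symm, hpa.symm, hxpa.symm⟩, ⟨hpxa.symm, hpa.symm⟩,
            (Perm.mem_support.1 hpS).symm⟩)).symm (card_le_card fun g hg => ?_)
        simp only [hit4, hit3, hT, mem_filter] at hg ⊢
        exact ⟨⟨hg.1.1, hg.1.2 ▸ hpS, by rw [hg.2, hg.1.2]⟩, hg.1.2⟩
      calc (s - 2) * e = R.card • e := by rw [hRc, smul_eq_mul]
        _ ≤ ∑ p ∈ R, (((T.filter fun g => g v ∈ S ∧ g (x v) = x (g v))).filter
              fun g => g v = p).card := card_nsmul_le_sum R _ e hfib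
        _ ≤ _ := by
          rw [← card_biUnion (fun p _ q _ hpq => disjoint_filter.2 fun g _ h1 h2 => hpq (h1.symm.trans h2))]
          exact card_le_card (biUnion_subset.2 fun p _ => filter_subset _ _)
    rw [sum_congr rfl fun g _ => if_pos hinv] at hsum
    have hA' : ∑ p ∈ R, (T'.filter fun g => g p ∈ S ∧ g (x p) ∉ S).card ≤
        (s - 2) * ((s - 1) * (n - s - 1) * e) :=
      (sum_le_card_nsmul _ _ _ fun p hp => hAgen p hp fun h => (hRmem p hp).2.2 (by rw [← h, hinv])).trans
        (le_of_eq (by rw [hRc, smul_eq_mul]))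
    have hnat : (n - 2) * ((n - 3) * e) * s + (s - 2) * ((s - 2) * e) ≤
        ((n - 2) * ((n - 3) * e) + (s - 2) * ((s - 1) * ((n - 3) * e))) +
          ((n - 2) * ((n - 3) * e) + (s - 2) * ((s - 1) * (n - s - 1) * e)) +
          ((n - s) * ((n - 3) * e) + (s - 2) * ((s - 2) * (n - s) * e)) := by omega
    zify [show 2 ≤ n by omega, show 3 ≤ n by omega, show s ≤ n by omega, show 2 ≤ s by omega,
      show 1 ≤ s by omega, show 1 ≤ n - s by omega] at hnat
    refine le_of_mul_le_mul_left ?_ he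
    linarith [hnat]

/-- No element of smallest support `s` with `2 s + 3 ≤ n`. -/
theorem false_of_minimal (hM : MoveFour P) {x : Perm α} (hx : x ∈ P) {s : ℕ}
    (hs : x.support.card = s) (hmin : ∀ h ∈ P, h ≠ 1 → s ≤ h.support.card)
    (hn : 2 * s + 3 ≤ Fintype.card α)
    (hcase : (5 ≤ s ∧ ∃ a, x (x a) ≠ a) ∨
      ((∀ v, x (x v) = v) ∧ (8 ≤ s ∨ (s = 6 ∧ 16 ≤ Fintype.card α)))) : False := by
  obtain ⟨d, hd⟩ := Nat.exists_eq_add_of_le hn
  rcases hcase with ⟨hs5, a, ha⟩ | ⟨hinv, hbig⟩
  · have haS : a ∈ x.support := Perm.mem_support.2 fun h => ha (by rw [h, h])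
    have h := (average_bound hM (by omega) hx hs hmin (by omega) (by omega) haS).1 ha
    obtain ⟨i, rfl⟩ := Nat.exists_eq_add_of_le hs5
    rw [hd] at h
    push_cast at h
    nlinarith [mul_nonneg (Int.natCast_nonneg i) (Int.natCast_nonneg i),
      mul_nonneg (Int.natCast_nonneg i) (Int.natCast_nonneg d),
      mul_nonneg (Int.natCast_nonneg d) (Int.natCast_nonneg d),
      mul_nonneg (mul_nonneg (Int.natCast_nonneg i) (Int.natCast_nonneg i)) (Int.natCast_nonneg d),
      mul_nonneg (mul_nonneg (Int.natCast_nonneg i) (Int.natCast_nonneg d)) (Int.natCast_nonneg d)]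
  · have hs6 : 6 ≤ s := by omega
    obtain ⟨a, haS⟩ := card_pos.1 (show 0 < x.support.card by omega)
    have h := (average_bound hM (by omega) hx hs hmin (by omega) (by omega) haS).2 hinv
    rw [hd] at h
    push_cast at h
    rcases hbig with hge | ⟨rfl, h16⟩
    swap
    · have hd1 : (1 : ℤ) ≤ d := by
        have : 1 ≤ d := by omega
        exact_mod_cast this
      push_cast at h
      nlinarith [mul_nonneg (sub_nonneg.2 hd1) (sub_nonneg.2 hd1)]
    · obtain ⟨i, rfl⟩ := Nat.exists_eq_add_of_le hge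
      push_cast at h
      nlinarith [mul_nonneg (Int.natCast_nonneg i) (Int.natCast_nonneg i),
        mul_nonneg (Int.natCast_nonneg i) (Int.natCast_nonneg d),
        mul_nonneg (Int.natCast_nonneg d) (Int.natCast_nonneg d),
        mul_nonneg (mul_nonneg (Int.natCast_nonneg i) (Int.natCast_nonneg i)) (Int.natCast_nonneg d),
        mul_nonneg (mul_nonneg (Int.natCast_nonneg i) (Int.natCast_nonneg d)) (Int.natCast_nonneg d)]

end CfsgLib.Perm.JordanSmall
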