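import Cfsg.Agent.Lib.Perm.JordanSmall.Regular
import Cfsg.Agent.Lib.ClassSizes.Jordan
import Cfsg.Agent.S3707

/-!
# A small Jordan set in a primitive group

A primitive group of degree `n` with a Jordan set of size `1 < m < n / 2` contains the alternating group.
-/

set_option autoImplicit false

namespace CfsgLib.Perm.JordanSmall

open Equiv Finset
open scoped Classical

variable {α : Type*} [Fintype α] {P : Subgroup (Perm α)}

omit [Fintype α] in
theorem vec_four_injective {a b c d : α} (h : [a, b, c, d].Nodup) :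
    Function.Injective ![a, b, c, d] := by
  simp at h
  intro i j
  fin_cases i <;> fin_cases j <;> simp <;> tauto

/-- A primitive group with a small Jordan set is four-fold transitive. -/
theorem moveFour_of_jordan (hP : MulAction.IsPreprimitive P α) {Γ : Finset α} (h1 : 1 < Γ.card)
    (h2 : 2 * Γ.card < Fintype.card α) (hJ : JordanTrans P Γ) : MoveFour P := by
  have : Finite P := inferInstance
  have hsmul : ∀ (g : P) (v : α), g • v = (g : Perm α) v := fun g v => rfl
  have h3 : MulAction.IsMultiplyPretransitive P α 3 := by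
    refine Cfsg.Agent.S3707.result hP (Γ : Set α) (by rwa [Set.ncard_coe_finset]) ?_ ?_
    · rw [Set.ncard_coe_finset, Nat.card_eq_fintype_card]; omega
    · intro x hx y hy
      obtain ⟨h, hh, hfix, hxy⟩ := hJ x hx y hy
      exact ⟨⟨h, hh⟩, hfix, hxy⟩
  have := hP.toIsPretransitive
  obtain ⟨a, ha⟩ := exists_outside Γ (by omega)
  have h2' : MulAction.IsMultiplyPretransitive (MulAction.stabilizer P a)
      (SubMulAction.ofStabilizer P a) 2 := SubMulAction.ofStabilizer.isMultiplyPretransitive.1 h3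
  have : FaithfulSMul (MulAction.stabilizer P a) (SubMulAction.ofStabilizer P a) := by
    refine ⟨fun {g₁ g₂} h => Subtype.ext (Subtype.ext (Equiv.ext fun v => ?_))⟩
    by_cases hv : v = a
    · subst hv
      exact g₁.2.trans g₂.2.symm
    · exact congrArg Subtype.val (h ⟨v, hv⟩)
  have hcard : Nat.card (SubMulAction.ofStabilizer P a) + 1 = Fintype.card α := by
    rw [← Nat.card_eq_fintype_card, SubMulAction.nat_card_ofStabilizer_add_one_eq P a]
  set Γ' : Set (SubMulAction.ofStabilizer P a) := {v | (v : α) ∈ Γ} with hΓ'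
  have hΓ'c : Γ'.ncard = Γ.card := by
    rw [← Set.ncard_image_of_injective Γ' Subtype.val_injective, ← Set.ncard_coe_finset]
    congr 1
    ext v
    simp only [hΓ', Set.mem_image, Set.mem_ofPred_eq, Finset.mem_coe]
    exact ⟨fun ⟨w, hw, e⟩ => e ▸ hw, fun hv => ⟨⟨v, fun h => ha (h ▸ hv)⟩, hv, rfl⟩⟩
  have h3' : MulAction.IsMultiplyPretransitive (MulAction.stabilizer P a)
      (SubMulAction.ofStabilizer P a) 3 := by
    refine Cfsg.Agent.S3707.result (MulAction.isPreprimitive_of_is_two_pretransitive h2') Γ'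
      (by omega) (by omega) fun x hx y hy => ?_
    obtain ⟨h, hh, hfix, hxy⟩ := hJ x.1 hx y.1 hy
    exact ⟨⟨⟨h, hh⟩, hfix a ha⟩, fun z hz => Subtype.ext (hfix z.1 hz), Subtype.ext hxy⟩
  have h4 : MulAction.IsMultiplyPretransitive P α 4 :=
    SubMulAction.ofStabilizer.isMultiplyPretransitive.2 h3'
  intro a b c d a' b' c' d' h h'
  obtain ⟨g, hg⟩ := h4.exists_smul_eq ⟨_, vec_four_injective h⟩ ⟨_, vec_four_injective h'⟩
  have hgi : ∀ i : Fin 4, (g : Perm α) (![a, b, c, d] i) = ![a', b', c', d'] i := fun i =>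
    congrArg (fun f : Fin 4 ↪ α => f i) hg
  exact ⟨g, g.2, hgi 0, hgi 1, hgi 2, hgi 3⟩

/-- A fixed-point set of prime order elements: the order divides the support. -/
theorem prime_dvd_support {x : Perm α} {p : ℕ} (hp : p.Prime) (hx : orderOf x = p) :
    p ∣ x.support.card := by
  obtain ⟨k, hk⟩ := Perm.cycleType_prime_order (hx.symm ▸ hp)
  rw [← Perm.sum_cycleType, hk, Multiset.sum_replicate, smul_eq_mul, hx]
  exact dvd_mul_left p _

/-- No element of smallest support moves exactly four points. -/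
theorem false_of_four (hM : MoveFour P) (hn : 5 ≤ Fintype.card α) {x : Perm α} (hx : x ∈ P)
    (hs : x.support.card = 4) (hinv : ∀ v, x (x v) = v)
    (hmin : ∀ h ∈ P, h ≠ 1 → 4 ≤ h.support.card) : False := by
  obtain ⟨a, ha⟩ := card_pos.1 (show 0 < x.support.card by omega)
  have hxa : x a ≠ a := Perm.mem_support.1 ha
  obtain ⟨c, hc, hcab⟩ := exists_mem_notMem_of_card_lt_card (s := {a, x a}) (t := x.support)
    (card_le_two.trans_lt (by omega))
  simp only [mem_insert, mem_singleton, not_or] at hcab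
  have hxc : x c ≠ c := Perm.mem_support.1 hc
  obtain ⟨e, he⟩ := exists_outside x.support (by omega)
  have hxe : x e = e := Perm.notMem_support.1 he
  have hd1 : a ≠ x c := fun h => hcab.2 (by rw [h, hinv])
  have hd2 : x a ≠ x c := fun h => hcab.1 (x.injective h).symm
  have hS : x.support = {a, x a, c, x c} := by
    refine (eq_of_subset_of_card_le ?_ (le_of_eq ?_)).symm
    · intro v hv
      simp only [mem_insert, mem_singleton] at hv
      rcases hv with rfl | rfl | rfl | rfl <;>
        first | assumption | exact Perm.apply_mem_support.2 (by assumption)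
    · rw [hs, card_insert_of_notMem, card_insert_of_notMem, card_pair hxc.symm] <;>
        simp [hd1, hd2, Ne.symm hxa, Ne.symm hcab.1, Ne.symm hcab.2]
  have hne : ∀ v ∈ x.support, v ≠ e := fun v hv h => he (h ▸ hv)
  have hxaS : x a ∈ x.support := Perm.apply_mem_support.2 ha
  obtain ⟨g, hg, ga, gb, gc, gd⟩ := hM a (x a) c (x c) a (x a) c e
    (by simp; exact ⟨⟨Ne.symm hxa, Ne.symm hcab.1, hd1⟩, ⟨Ne.symm hcab.2, Ne.symm hcab.1⟩, Ne.symm hxc⟩)
    (by simp; exact ⟨⟨Ne.symm hxa, Ne.symm hcab.1, hne a ha⟩, ⟨Ne.symm hcab.2, hne _ hxaS⟩, hne c hc⟩)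
  set y := g * x * g⁻¹ with hy
  have hyg : ∀ v, y (g v) = g (x v) := fun v => by
    rw [hy, Perm.mul_apply, Perm.mul_apply, inv_apply_apply]
  have hya : y a = x a := by rw [← gb, ← hyg a, ga]
  have hyb : y (x a) = a := by
    conv_lhs => rw [← gb]
    rw [hyg, hinv, ga]
  have hyc : y c = e := by rw [← gd, ← hyg c, gc]
  have hsub : (x * y).support ⊆ {c, x c, e} := by
    intro v hv
    rw [Perm.mem_support, Perm.mul_apply] at hv
    simp only [mem_insert, mem_singleton]
    by_contra hcon
    simp only [not_or] at hcon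
    by_cases hva : v = a
    · exact hv (by rw [hva, hya, hinv])
    by_cases hvb : v = x a
    · exact hv (by rw [hvb, hyb])
    have hvS : v ∉ x.support := by simp [hS, hva, hvb, hcon.1, hcon.2.1]
    have hyv : y v = v := by
      by_contra hyv
      have hgv : x (g⁻¹ v) ≠ g⁻¹ v := fun h => hyv (by
        conv_lhs => rw [← apply_inv_apply g v]
        rw [hyg, h, apply_inv_apply])
      rw [← Perm.mem_support, hS] at hgv
      simp only [mem_insert, mem_singleton] at hgv
      rcases hgv with h | h | h | h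
      · exact hva (by rw [← ga, ← h, apply_inv_apply])
      · exact hvb (by rw [← gb, ← h, apply_inv_apply])
      · exact hcon.1 (by rw [← gc, ← h, apply_inv_apply])
      · exact hcon.2.2 (by rw [← gd, ← h, apply_inv_apply])
    exact hv (by rw [hyv, Perm.notMem_support.1 hvS])
  have hne1 : x * y ≠ 1 := fun h => by
    have h2 := congrArg (fun f : Perm α => f c) h
    simp only [Perm.mul_apply, Perm.one_apply, hyc, hxe] at h2
    exact hne c hc h2.symm
  have := (hmin _ (mul_mem hx (mul_mem (mul_mem hg hx) (inv_mem hg))) hne1).trans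
    ((card_le_card hsub).trans card_le_three)
  omega

/-- A seven-cycle from a Jordan set of seven points. -/
theorem exists_seven_cycle {Γ : Finset α} (h7 : Γ.card = 7) (hJ : JordanTrans P Γ) :
    ∃ g ∈ P, g.IsCycle ∧ g.support.card = 7 := by
  have : Fact (Nat.Prime 7) := ⟨by norm_num⟩
  set H : Subgroup (Perm α) := P ⊓ fixingSubgroup (Perm α) ((Γ : Set α)ᶜ) with hH
  have hmem : ∀ h : Perm α, h ∈ H ↔ h ∈ P ∧ ∀ v ∉ Γ, h v = v := fun h => by
    simp [hH, mem_fixingSubgroup_iff]
  obtain ⟨a, ha⟩ := card_pos.1 (show 0 < Γ.card by omega)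
  have horb : MulAction.orbit H a = (Γ : Set α) := by
    ext v
    constructor
    · rintro ⟨⟨h, hh⟩, rfl⟩
      exact apply_mem ((hmem h).1 hh).2 ha
    · intro hv
      obtain ⟨h, hhP, hfix, hav⟩ := hJ a ha v hv
      exact ⟨⟨h, (hmem h).2 ⟨hhP, hfix⟩⟩, hav⟩
  have hdvd : 7 ∣ Nat.card H := by
    rw [← h7, ← Set.ncard_coe_finset, ← horb, ← Nat.card_coe_set_eq,
      Nat.card_congr (MulAction.orbitEquivQuotientStabilizer H a)]
    exact Subgroup.card_quotient_dvd_card _
  obtain ⟨⟨g, hg⟩, hord⟩ := exists_prime_orderOf_dvd_card' 7 hdvd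
  rw [Subgroup.orderOf_mk] at hord
  obtain ⟨hgP, hfix⟩ := (hmem g).1 hg
  have hsub : g.support ⊆ Γ := fun v hv => by_contra fun h => Perm.mem_support.1 hv (hfix v h)
  have hle := card_le_card hsub
  have hpos : g.support.card ≠ 0 := fun h => by
    rw [card_eq_zero, Perm.support_eq_empty_iff] at h
    rw [h, orderOf_one] at hord
    omega
  have hd := prime_dvd_support (by norm_num) hord
  have hsupp : g.support.card = 7 := by
    rcases hd with ⟨k, hk⟩
    omega
  refine ⟨g, hgP, Perm.isCycle_of_prime_order ?_ ?_, hsupp⟩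
  · rw [hord]; norm_num
  · rw [hord, hsupp]; norm_num

/-- A primitive group with a small Jordan set contains the alternating group. -/
theorem alternatingGroup_le_of_jordan (hP : MulAction.IsPreprimitive P α) {Γ : Finset α}
    (h1 : 1 < Γ.card) (h2 : 2 * Γ.card < Fintype.card α) (hJ : JordanTrans P Γ) :
    alternatingGroup α ≤ P := by
  have hM := moveFour_of_jordan hP h1 h2 hJ
  -- an element of smallest support
  obtain ⟨a, ha, b, hb, hab⟩ := one_lt_card.1 h1
  obtain ⟨h, hhP, hfix, hhab⟩ := hJ a ha b hb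
  have hh1 : h ≠ 1 := by
    rintro rfl
    exact hab hhab
  have hhΓ : h.support.card ≤ Γ.card :=
    card_le_card fun v hv => by_contra fun hc => Perm.mem_support.1 hv (hfix v hc)
  obtain ⟨x₀, hx₀, hmin₀⟩ := exists_min_image ((elems P).filter fun g => g ≠ 1)
    (fun g => g.support.card) ⟨h, mem_filter.2 ⟨mem_elems.2 hhP, hh1⟩⟩
  simp only [mem_filter, mem_elems] at hx₀ hmin₀
  obtain ⟨hx₀P, hx₀1⟩ := hx₀
  set s := x₀.support.card with hs₀
  have hmin : ∀ g ∈ P, g ≠ 1 → s ≤ g.support.card := fun g hg hg1 => hmin₀ g ⟨hg, hg1⟩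
  have hsm : s ≤ Γ.card := (hmin h hhP hh1).trans hhΓ
  -- of prime order
  obtain ⟨x, hxP, hp, hxs⟩ : ∃ x ∈ P, (orderOf x).Prime ∧ x.support.card = s := by
    have hne1 : orderOf x₀ ≠ 1 := fun h => hx₀1 (orderOf_eq_one_iff.1 h)
    have hp := Nat.minFac_prime hne1
    have hord : orderOf (x₀ ^ (orderOf x₀ / (orderOf x₀).minFac)) = (orderOf x₀).minFac :=
      orderOf_pow_orderOf_div (orderOf_pos x₀).ne' (Nat.minFac_dvd _)
    refine ⟨_, pow_mem hx₀P _, hord.symm ▸ hp, le_antisymm (card_le_card (Perm.support_pow_le _ _))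
      (hmin _ (pow_mem hx₀P _) fun h => ?_)⟩
    rw [h, orderOf_one] at hord
    exact hp.ne_one hord.symm
  have hdvd := prime_dvd_support hp rfl
  rw [hxs] at hdvd
  have hx1 : x ≠ 1 := fun h => hp.ne_one (by rw [h, orderOf_one])
  have hs2 : 2 ≤ s := hxs ▸ Perm.two_le_card_support_of_ne_one hx1
  have hinv : orderOf x = 2 → ∀ v, x (x v) = v := fun h v => by
    rw [← Perm.mul_apply, ← pow_two, ← h, pow_orderOf_eq_one, Perm.one_apply]
  rcases (show s = 2 ∨ s = 3 ∨ 4 ≤ s by omega) with hs | hs | hs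
  · rw [Perm.subgroup_eq_top_of_isPreprimitive_of_isSwap_mem hP x
      (Perm.card_support_eq_two.1 (hxs.trans hs)) hxP]
    exact le_top
  · exact Perm.alternatingGroup_le_of_isPreprimitive_of_isThreeCycle_mem hP
      (card_support_eq_three_iff.1 (hxs.trans hs)) hxP
  rcases Nat.lt_or_ge s 5 with hs4 | hs5
  · have h4 : s = 4 := by omega
    have h2' : orderOf x = 2 := by
      rw [h4] at hdvd
      have := Nat.le_of_dvd (by norm_num) hdvd
      have := hp.two_le
      interval_cases hq : orderOf x <;> first | omega | exact absurd hp (by decide)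
    exact (false_of_four hM (by omega) hxP (hxs.trans h4) (hinv h2')
      (fun g hg hg1 => h4 ▸ hmin g hg hg1)).elim
  rcases hsm.lt_or_eq with hlt | heq
  swap
  · exact (false_of_regular hM (by omega) (by omega)
      (fun g hg hg1 => heq ▸ hmin g hg hg1) hJ).elim
  by_cases h2' : orderOf x = 2
  · have heven : 2 ∣ s := h2' ▸ hdvd
    rcases (show 8 ≤ s ∨ (s = 6 ∧ 16 ≤ Fintype.card α) ∨ (Fintype.card α = 15 ∧ Γ.card = 7) by omega)
      with hbig | hbig | ⟨hn15, hm7⟩
    · exact (false_of_minimal hM hxP hxs hmin (by omega) (Or.inr ⟨hinv h2', Or.inl hbig⟩)).elim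
    · exact (false_of_minimal hM hxP hxs hmin (by omega) (Or.inr ⟨hinv h2', Or.inr hbig⟩)).elim
    · obtain ⟨g, hgP, hcyc, hsupp⟩ := exists_seven_cycle hm7 hJ
      exact CfsgLib.ClassSizes.alternatingGroup_le_of_primeCycle P hP (by norm_num) (by omega)
        hcyc hsupp hgP
  · refine (false_of_minimal hM hxP hxs hmin (by omega) (Or.inl ⟨hs5, ?_⟩)).elim
    obtain ⟨v, hv⟩ : x.support.Nonempty := card_pos.1 (by omega)
    refine ⟨v, fun hvv => ?_⟩
    obtain ⟨k, hk⟩ := hp.odd_of_ne_two h2'
    have hpow : (x ^ orderOf x) v = v := by rw [pow_orderOf_eq_one, Perm.one_apply]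
    rw [hk, pow_succ', Perm.mul_apply, pow_mul] at hpow
    have hfix : ((x ^ 2) ^ k) v = v :=
      Perm.pow_apply_eq_self_of_apply_eq_self (by rwa [pow_two, Perm.mul_apply]) k
    rw [hfix] at hpow
    exact Perm.mem_support.1 hv hpow

end CfsgLib.Perm.JordanSmall
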