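import Cfsg.Agent.Lib.Perm.JordanSmall.Primitive

/-!
# A small Jordan set in a quasiprimitive group

A quasiprimitive group with a Jordan set of size `1 < m < n / 2` is primitive, and contains the alternating
group: on a system of blocks the Jordan set gives one again, and the group induced on the blocks would make the
stabilizer of the preimage of the alternating group too small.
-/

set_option autoImplicit false

namespace CfsgLib.Perm.JordanSmall

open Equiv Finset
open scoped Classical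

/-- A group normalized by all even permutations, with an element moving a point and fixing two others. -/
theorem alternatingGroup_le_of_normalized {β : Type*} [Fintype β] [DecidableEq β] (L : Subgroup (Perm β))
    (hnorm : ∀ s : Perm β, Perm.sign s = 1 → ∀ l ∈ L, s * l * s⁻¹ ∈ L) {q : Perm β} (hq : q ∈ L)
    {a d e : β} (ha : q a ≠ a) (hd : q d = d) (he : q e = e) (hde : d ≠ e) :
    alternatingGroup β ≤ L := by
  have had : a ≠ d := fun h => ha (h ▸ hd)
  have hae : a ≠ e := fun h => ha (h ▸ he)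
  set b := q a with hb
  have hbd : b ≠ d := fun h => had (q.injective (h.trans hd.symm))
  have hbe : b ≠ e := fun h => hae (q.injective (h.trans he.symm))
  have hab : a ≠ b := Ne.symm ha
  set t := swap a d * swap a e with ht
  have hts : Perm.sign t = 1 := by
    rw [ht, Perm.sign_mul, Perm.sign_swap had, Perm.sign_swap hae]; rfl
  have hconj : ∀ u v, q * swap u v * q⁻¹ = swap (q u) (q v) := fun u v => by
    rw [swap_apply_apply]
  set c := swap a e * swap a b with hc
  have hcL : c ∈ L := by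
    have h1 : q * t * q⁻¹ * t⁻¹ ∈ L := by
      rw [mul_assoc q, mul_assoc q]
      exact mul_mem hq (hnorm t hts _ (inv_mem hq))
    have h2 : q * t * q⁻¹ * t⁻¹ = c := by
      have h3 : q * t * q⁻¹ = swap b d * swap b e := by
        rw [ht, show q * (swap a d * swap a e) * q⁻¹ = q * swap a d * q⁻¹ * (q * swap a e * q⁻¹) by group,
          hconj, hconj, hd, he, ← hb]
      rw [h3, ht, mul_inv_rev, swap_inv, swap_inv, hc]
      ext v
      simp only [Perm.mul_apply, swap_apply_def]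
      split_ifs <;> simp_all
    exact h2 ▸ h1
  have hc3 : c.IsThreeCycle := Perm.isThreeCycle_swap_mul_swap_same hae hab hbe.symm
  rw [← Perm.closure_three_cycles_eq_alternating, Subgroup.closure_le]
  intro τ hτ
  obtain ⟨s, hs⟩ := isConj_iff.1
    ((Perm.isConj_iff_cycleType_eq).2 ((hc3 : c.cycleType = {3}).trans (hτ : τ.cycleType = {3}).symm))
  rcases Int.units_eq_one_or (Perm.sign s) with h1 | h1
  · exact hs ▸ hnorm s h1 c hcL
  · have h2 : Perm.sign (s * swap a b) = 1 := by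
      rw [Perm.sign_mul, h1, Perm.sign_swap hab]; rfl
    have h3 : τ⁻¹ ∈ L := by
      have h4 := hnorm _ h2 c hcL
      have h5 : s * swap a b * c * (s * swap a b)⁻¹ = τ⁻¹ := by
        rw [← hs, hc]
        simp only [mul_inv_rev, inv_inv, swap_inv, mul_assoc, swap_mul_self_mul]
      exact h5 ▸ h4
    simpa using inv_mem h3

section blocks

variable {G Ω Δ : Type*} [Group G] [Fintype Ω] [MulAction G Ω] [Fintype Δ] [MulAction G Δ]

/-- The data of a proper system of blocks below a quasiprimitive action. -/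
structure BlockMap (G : Type*) {Ω Δ : Type*} [Group G] [MulAction G Ω] [MulAction G Δ] (f : Ω → Δ) :
    Prop where
  equiv : ∀ (g : G) (x : Ω), f (g • x) = g • f x
  surj : Function.Surjective f
  notInj : ¬ Function.Injective f
  nontriv : Nontrivial Δ
  qp : ∀ N : Subgroup G, N.Normal → N ≠ ⊥ → MulAction.IsPretransitive ↥N Ω
  trans : MulAction.IsPretransitive G Ω

variable {f : Ω → Δ} [FaithfulSMul G Ω]

omit [Fintype Ω] [Fintype Δ] [FaithfulSMul G Ω] in
theorem BlockMap.faithful (hf : BlockMap G f) : FaithfulSMul G Δ := by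
  have hker : (MulAction.toPermHom G Δ).ker = ⊥ := by
    by_contra hne
    have htr := hf.qp _ (MonoidHom.normal_ker _) hne
    obtain ⟨δ, δ', hδ⟩ := hf.nontriv
    obtain ⟨u, rfl⟩ := hf.surj δ
    obtain ⟨w, rfl⟩ := hf.surj δ'
    obtain ⟨⟨k, hk⟩, hkuw⟩ := htr.exists_smul_eq u w
    refine hδ ?_
    have h1 : k • f u = f u := Equiv.ext_iff.1 (MonoidHom.mem_ker.1 hk) (f u)
    rw [← h1, ← hf.equiv]
    exact congrArg f hkuw
  refine ⟨fun {g₁ g₂} h => ?_⟩
  have h1 : g₂⁻¹ * g₁ ∈ (MulAction.toPermHom G Δ).ker :=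
    MonoidHom.mem_ker.2 (Equiv.ext fun δ => by
      show (g₂⁻¹ * g₁) • δ = δ
      rw [mul_smul, h δ, inv_smul_smul])
  rw [hker, Subgroup.mem_bot, inv_mul_eq_one] at h1
  exact h1.symm

omit [Fintype Ω] [Fintype Δ] [FaithfulSMul G Ω] in
theorem BlockMap.qp' (hf : BlockMap G f) (N : Subgroup G) (hN : N.Normal) (hne : N ≠ ⊥) :
    MulAction.IsPretransitive ↥N Δ := by
  refine ⟨fun δ δ' => ?_⟩
  obtain ⟨u, rfl⟩ := hf.surj δ
  obtain ⟨w, rfl⟩ := hf.surj δ'
  obtain ⟨⟨k, hk⟩, hkuw⟩ := (hf.qp N hN hne).exists_smul_eq u w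
  exact ⟨⟨k, hk⟩, (hf.equiv k u).symm.trans (congrArg f hkuw)⟩

variable {Γ : Finset Ω} (hJ : ∀ x ∈ Γ, ∀ y ∈ Γ, ∃ g : G, (∀ z ∉ Γ, g • z = z) ∧ g • x = y)
  (h1 : 1 < Γ.card)

include hJ h1

omit [Fintype Ω] [Fintype Δ] in
/-- The Jordan set does not lie in one block. -/
theorem BlockMap.exists_two (hf : BlockMap G f) : ∃ x ∈ Γ, ∃ y ∈ Γ, f x ≠ f y := by
  by_contra hcon
  push Not at hcon
  obtain ⟨a, ha, b, hb, hab⟩ := one_lt_card.1 h1
  obtain ⟨g, hfix, hgab⟩ := hJ a ha b hb
  have hg : g = 1 := by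
    refine (hf.faithful).eq_of_smul_eq_smul fun δ => ?_
    rw [one_smul]
    obtain ⟨v, rfl⟩ := hf.surj δ
    by_cases hv : v ∈ Γ
    · rw [hcon v hv a ha, ← hf.equiv, hgab]
      exact hcon b hb a ha
    · rw [← hf.equiv, hfix v hv]
  exact hab (by rw [← hgab, hg, one_smul])

/-- The Jordan set is a union of blocks. -/
theorem BlockMap.mem_of_eq (hf : BlockMap G f) {x y : Ω} (hx : x ∈ Γ) (hxy : f y = f x) : y ∈ Γ := by
  by_contra hy
  obtain ⟨u, hu, w, hw, huw⟩ := hf.exists_two hJ h1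
  refine huw ?_
  have key : ∀ z ∈ Γ, f z = f x := fun z hz => by
    obtain ⟨g, hfix, hg⟩ := hJ x hx z hz
    rw [← hg, hf.equiv, ← hxy, ← hf.equiv, hfix y hy]
  rw [key u hu, key w hw]

/-- The image of the Jordan set among the blocks. -/
theorem BlockMap.image_jordan (hf : BlockMap G f) :
    1 < (Γ.image f).card ∧
      (∀ δ ∈ Γ.image f, ∀ δ' ∈ Γ.image f,
        ∃ g : G, (∀ ε ∉ Γ.image f, g • ε = ε) ∧ g • δ = δ') := by
  constructor
  · obtain ⟨u, hu, w, hw, huw⟩ := hf.exists_two hJ h1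
    exact one_lt_card.2 ⟨f u, mem_image_of_mem f hu, f w, mem_image_of_mem f hw, huw⟩
  · intro δ hδ δ' hδ'
    obtain ⟨x, hx, rfl⟩ := mem_image.1 hδ
    obtain ⟨y, hy, rfl⟩ := mem_image.1 hδ'
    obtain ⟨g, hfix, hg⟩ := hJ x hx y hy
    refine ⟨g, fun ε hε => ?_, by rw [← hf.equiv, hg]⟩
    obtain ⟨z, rfl⟩ := hf.surj ε
    rw [← hf.equiv, hfix z fun hz => hε (mem_image_of_mem f hz)]

/-- The sizes among the blocks. -/
theorem BlockMap.card_image (hf : BlockMap G f) (h2 : 2 * Γ.card < Fintype.card Ω) :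
    2 * (Γ.image f).card < Fintype.card Δ ∧ Fintype.card Δ < Fintype.card Ω := by
  have := hf.trans
  obtain ⟨p, p', hpp, hne⟩ : ∃ p p', f p = f p' ∧ p ≠ p' := by
    have := hf.notInj
    simp only [Function.Injective] at this
    push Not at this
    exact this
  set b := (univ.filter fun v => f v = f p).card with hb
  have hfib : ∀ δ, (univ.filter fun v => f v = δ).card = b := fun δ => by
    obtain ⟨w, rfl⟩ := hf.surj δ
    obtain ⟨g, hg⟩ := MulAction.exists_smul_eq G w p
    refine card_bij' (fun v _ => g • v) (fun v _ => g⁻¹ • v) ?_ ?_ (fun v _ => inv_smul_smul g v)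
      (fun v _ => smul_inv_smul g v)
    · intro v hv
      simp only [mem_filter, mem_univ, true_and] at hv ⊢
      rw [hf.equiv, hv, ← hf.equiv, hg]
    · intro v hv
      simp only [mem_filter, mem_univ, true_and] at hv ⊢
      rw [hf.equiv, hv, ← hg, hf.equiv, inv_smul_smul]
  have hb2 : 2 ≤ b := by
    refine Finset.one_lt_card.2 ⟨p, ?_, p', ?_, hne⟩ <;> simp [hpp]
  have hn : Fintype.card Ω = Fintype.card Δ * b := by
    rw [← card_univ, card_eq_sum_card_fiberwise (f := f) (t := univ) (fun v _ => mem_univ _),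
      sum_congr rfl fun δ _ => hfib δ, sum_const, smul_eq_mul, card_univ]
  have hm : Γ.card = (Γ.image f).card * b := by
    rw [card_eq_sum_card_image f Γ, ← smul_eq_mul, ← sum_const]
    refine sum_congr rfl fun δ hδ => ?_
    obtain ⟨x, hx, rfl⟩ := mem_image.1 hδ
    rw [← hfib (f x)]
    refine congrArg card (Finset.ext fun v => ?_)
    simp only [mem_filter, mem_univ, true_and]
    exact ⟨fun h => h.2, fun h => ⟨hf.mem_of_eq hJ h1 hx h, h⟩⟩
  rw [hn, hm] at h2
  constructor
  · by_contra hle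
    have := Nat.mul_le_mul_right b (Nat.le_of_not_lt hle)
    rw [mul_assoc] at this
    omega
  · rw [hn]
    have hpos : 0 < Fintype.card Δ := Fintype.card_pos_iff.2 ⟨f p⟩
    calc Fintype.card Δ = Fintype.card Δ * 1 := (mul_one _).symm
      _ < Fintype.card Δ * b := Nat.mul_lt_mul_of_pos_left (by omega) hpos

/-- The alternating group on the blocks is impossible. -/
theorem BlockMap.false_of_alternating (hf : BlockMap G f) (h2 : 2 * Γ.card < Fintype.card Ω)
    (hA : alternatingGroup Δ ≤ (MulAction.toPermHom G Δ).range) : False := by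
  have := hf.faithful
  obtain ⟨hΓ'1, -⟩ := hf.image_jordan hJ h1
  obtain ⟨hΓ'2, -⟩ := hf.card_image hJ h1 h2
  set Γ' := Γ.image f with hΓ'
  set φ := MulAction.toPermHom G Δ with hφ
  have hφapp : ∀ (g : G) (δ : Δ), φ g δ = g • δ := fun g δ => rfl
  obtain ⟨c₀, hc₀⟩ := exists_outside Γ' (by omega)
  let K : Subgroup G :=
    { carrier := {g | ∀ v, f v = c₀ → g • v = v}
      one_mem' := fun v _ => one_smul G v
      mul_mem' := fun {g g'} hg hg' v hv => by rw [mul_smul, hg' v hv, hg v hv]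
      inv_mem' := fun {g} hg v hv => by rw [inv_smul_eq_iff, hg v hv] }
  set L := (K.map φ).comap (Perm.ofSubtype (p := fun δ => δ ≠ c₀)) with hL
  have hnorm : ∀ s : Perm {δ // δ ≠ c₀}, Perm.sign s = 1 → ∀ l ∈ L, s * l * s⁻¹ ∈ L := by
    intro s hs l hl
    obtain ⟨g, hg⟩ := hA (show Perm.ofSubtype s ∈ alternatingGroup Δ by
      rw [Perm.mem_alternatingGroup, Perm.sign_ofSubtype, hs])
    obtain ⟨k, hk, hkl⟩ := Subgroup.mem_map.1 (Subgroup.mem_comap.1 hl)
    have hg₀ : g • c₀ = c₀ := by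
      rw [← hφapp, hg]
      exact Perm.ofSubtype_apply_of_not_mem s (by simp)
    rw [hL, Subgroup.mem_comap, Subgroup.mem_map]
    refine ⟨g * k * g⁻¹, fun v hv => ?_, by rw [map_mul, map_mul, map_inv, hg, hkl, map_mul, map_mul, map_inv]⟩
    have hv' : f (g⁻¹ • v) = c₀ := by rw [hf.equiv, hv, inv_smul_eq_iff, hg₀]
    rw [mul_smul, mul_smul, hk _ hv', smul_inv_smul]
  -- an element of `L` from the Jordan set
  obtain ⟨u, hu, w, hw, huw⟩ := hf.exists_two hJ h1
  obtain ⟨h, hfix, huw'⟩ := hJ u hu w hw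
  have hhK : h ∈ K := fun v hv => hfix v fun hc => hc₀ (hv ▸ mem_image_of_mem f hc)
  have hfix' : ∀ ε ∉ Γ', φ h ε = ε := by
    intro ε hε
    obtain ⟨z, rfl⟩ := hf.surj ε
    rw [hφapp, ← hf.equiv, hfix z fun hz => hε (mem_image_of_mem f hz)]
  have hh₀ : ∀ δ, φ h δ ≠ c₀ ↔ δ ≠ c₀ := fun δ => by
    conv_lhs => rw [← hfix' c₀ hc₀]
    exact (φ h).injective.ne_iff
  set q := (φ h).subtypePerm (p := fun δ => δ ≠ c₀) hh₀ with hq
  have hqL : q ∈ L := by
    rw [hL, Subgroup.mem_comap, Subgroup.mem_map]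
    refine ⟨h, hhK, ?_⟩
    rw [hq, Perm.ofSubtype_subtypePerm]
    intro δ hδ hc
    exact hδ (hc.symm ▸ hfix' c₀ hc₀)
  obtain ⟨d, hd, e, he, hde⟩ := one_lt_card.1 (show 1 < (Γ'ᶜ.erase c₀).card by
    rw [card_erase_of_mem (mem_compl.2 hc₀), card_compl]; omega)
  simp only [mem_erase, mem_compl] at hd he
  have hu₀ : f u ≠ c₀ := fun hc => hc₀ (hc ▸ mem_image_of_mem f hu)
  have hLA : alternatingGroup {δ // δ ≠ c₀} ≤ L := by
    refine alternatingGroup_le_of_normalized L hnorm hqL (a := ⟨f u, hu₀⟩) (d := ⟨d, hd.1⟩)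
      (e := ⟨e, he.1⟩) (fun hc => huw ?_) (Subtype.ext (hfix' d hd.2)) (Subtype.ext (hfix' e he.2))
      fun hc => hde (congrArg Subtype.val hc)
    have h3 : φ h (f u) = f u := congrArg Subtype.val hc
    rw [hφapp, ← hf.equiv, huw'] at h3
    exact h3.symm
  -- the preimage of the alternating group
  set N := (Perm.sign.comp φ).ker with hN
  have hNbot : N ≠ ⊥ := by
    have hΔ : 3 ≤ Fintype.card Δ := by omega
    have : Nontrivial (alternatingGroup Δ) := alternatingGroup.nontrivial_of_three_le_card (by rwa [Nat.card_eq_fintype_card])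
    obtain ⟨⟨τ, hτ⟩, hτ1⟩ := exists_ne (1 : alternatingGroup Δ)
    obtain ⟨g, hg⟩ := hA hτ
    intro hbot
    have hgN : g ∈ N := by
      rw [hN, MonoidHom.mem_ker, MonoidHom.comp_apply, hg]
      exact hτ
    rw [hbot, Subgroup.mem_bot] at hgN
    exact hτ1 (Subtype.ext (by show τ = 1; rw [← hg, hgN, map_one]))
  obtain ⟨p, p', hpp, hne⟩ : ∃ p p', f p = f p' ∧ p ≠ p' := by
    have := hf.notInj
    simp only [Function.Injective] at this
    push Not at this
    exact this
  have := hf.trans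
  obtain ⟨v, hv⟩ := hf.surj c₀
  obtain ⟨g₀, hg₀⟩ := MulAction.exists_smul_eq G p v
  obtain ⟨⟨g, hgN⟩, hg⟩ := (hf.qp N (MonoidHom.normal_ker _) hNbot).exists_smul_eq v (g₀ • p')
  replace hg : g • v = g₀ • p' := hg
  have hp' : f (g₀ • p') = c₀ := by rw [hf.equiv, ← hpp, ← hf.equiv, hg₀, hv]
  have hgc : g • c₀ = c₀ := by
    conv_lhs => rw [← hv]
    rw [← hf.equiv, hg, hp']
  have hgc' : ∀ δ, φ g δ ≠ c₀ ↔ δ ≠ c₀ := fun δ => by
    conv_lhs => rw [← hgc]
    exact (φ g).injective.ne_iff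
  have hof : Perm.ofSubtype ((φ g).subtypePerm (p := fun δ => δ ≠ c₀) hgc') = φ g := by
    refine Perm.ofSubtype_subtypePerm _ fun δ hδ hc => hδ ?_
    rw [hφapp, hc, hgc]
  have hmem : (φ g).subtypePerm (p := fun δ => δ ≠ c₀) hgc' ∈ L := hLA (by
    rw [Perm.mem_alternatingGroup, ← Perm.sign_ofSubtype, hof]
    exact hgN)
  rw [hL, Subgroup.mem_comap, hof, Subgroup.mem_map] at hmem
  obtain ⟨k, hk, hkg⟩ := hmem
  have hkg' : k = g := MulAction.toPerm_injective hkg
  have h4 := hk v hv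
  rw [hkg', hg, ← hg₀] at h4
  exact hne (MulAction.injective g₀ h4.symm)

end blocks

open scoped Pointwise in
/-- A quasiprimitive group with a small Jordan set induces the alternating group. -/
theorem alternatingGroup_le_range_of_jordan {G : Type*} [Group G] (k : ℕ) :
    ∀ {Ω : Type*} [Fintype Ω] [MulAction G Ω] [FaithfulSMul G Ω], Fintype.card Ω = k →
      (∀ N : Subgroup G, N.Normal → N ≠ ⊥ → MulAction.IsPretransitive ↥N Ω) →
      ∀ Γ : Finset Ω, 1 < Γ.card → 2 * Γ.card < Fintype.card Ω →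
      (∀ x ∈ Γ, ∀ y ∈ Γ, ∃ g : G, (∀ z ∉ Γ, g • z = z) ∧ g • x = y) →
      alternatingGroup Ω ≤ (MulAction.toPermHom G Ω).range := by
  induction k using Nat.strong_induction_on with
  | _ k ih =>
    intro Ω _ _ _ hk hqp Γ h1 h2 hJ
    obtain ⟨a, ha, b, hb, hab⟩ := one_lt_card.1 h1
    obtain ⟨h, hfix, hhab⟩ := hJ a ha b hb
    have htop : (⊤ : Subgroup G) ≠ ⊥ := fun htb => hab <| by
      have : h = 1 := Subgroup.mem_bot.1 (htb ▸ Subgroup.mem_top h)
      rw [← hhab, this, one_smul]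
    have htr : MulAction.IsPretransitive G Ω := ⟨fun x y =>
      have ⟨⟨g, _⟩, hg⟩ := (hqp ⊤ inferInstance htop).exists_smul_eq x y
      ⟨g, hg⟩⟩
    by_cases hprim : MulAction.IsPreprimitive G Ω
    · refine alternatingGroup_le_of_jordan ?_ h1 h2 fun x hx y hy => ?_
      · let f : Ω →ₑ[(MulAction.toPermHom G Ω).rangeRestrict] Ω := ⟨id, fun _ _ => rfl⟩
        exact MulAction.IsPreprimitive.of_surjective (f := f) Function.surjective_id
      · obtain ⟨g, hgfix, hg⟩ := hJ x hx y hy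
        exact ⟨MulAction.toPermHom G Ω g, ⟨g, rfl⟩, hgfix, hg⟩
    · exfalso
      obtain ⟨B, hB, hnt⟩ : ∃ B : Set Ω, MulAction.IsBlock G B ∧ ¬ MulAction.IsTrivialBlock B := by
        by_contra hcon
        push Not at hcon
        exact hprim { isTrivialBlock_of_isBlock := fun {B} hB => hcon B hB }
      simp only [MulAction.IsTrivialBlock, not_or] at hnt
      obtain ⟨hns, hnu⟩ := hnt
      obtain ⟨u₀, hu₀, u₁, hu₁, hu⟩ := Set.not_subsingleton_iff.1 hns
      obtain ⟨x₁, hx₁⟩ := (Set.ne_univ_iff_exists_notMem _).1 hnu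
      let gg : Ω → G := fun x => Classical.choose (MulAction.exists_smul_eq G u₀ x)
      have hgg : ∀ x, gg x • u₀ = x := fun x =>
        Classical.choose_spec (MulAction.exists_smul_eq G u₀ x)
      have hblock : ∀ (g g' : G) (z : Ω), z ∈ g • B → z ∈ g' • B → g • B = g' • B := by
        intro g g' z hz hz'
        rcases MulAction.isBlock_iff_smul_eq_smul_or_disjoint.1 hB g g' with he | hdis
        · exact he
        · exact (Set.disjoint_left.1 hdis hz hz').elim
      have hmemB : ∀ x, x ∈ gg x • B := fun x => ⟨u₀, hu₀, hgg x⟩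
      let f : Ω → MulAction.orbit G B := fun x => ⟨gg x • B, MulAction.mem_orbit B (gg x)⟩
      have : Fintype (MulAction.orbit G B) := Fintype.ofFinite _
      have hf : BlockMap G f := by
        refine ⟨fun g x => Subtype.ext ?_, ?_, fun hinj => hu ?_, ?_, hqp, htr⟩
        · show gg (g • x) • B = g • (gg x • B)
          rw [smul_smul]
          refine hblock _ _ (g • x) (hmemB _) ⟨u₀, hu₀, ?_⟩
          show (g * gg x) • u₀ = g • x
          rw [mul_smul, hgg]
        · rintro ⟨-, g, rfl⟩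
          exact ⟨g • u₀, Subtype.ext (hblock _ g (g • u₀) (hmemB _) ⟨u₀, hu₀, rfl⟩)⟩
        · refine hinj (Subtype.ext ?_)
          show gg u₀ • B = gg u₁ • B
          rw [hblock (gg u₀) 1 u₀ (hmemB _) (by rwa [one_smul]),
            hblock (gg u₁) 1 u₁ (hmemB _) (by rwa [one_smul])]
        · refine ⟨f u₀, f x₁, fun he => hx₁ ?_⟩
          have h3 : gg u₀ • B = gg x₁ • B := congrArg Subtype.val he
          have h4 := hmemB x₁
          rwa [← h3, hblock (gg u₀) 1 u₀ (hmemB _) (by rwa [one_smul]), one_smul] at h4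
      have := hf.faithful
      obtain ⟨hk1, hkJ⟩ := hf.image_jordan hJ h1
      obtain ⟨hk2, hklt⟩ := hf.card_image hJ h1 h2
      exact hf.false_of_alternating hJ h1 h2
        (ih _ (hk ▸ hklt) rfl hf.qp' _ hk1 hk2 hkJ)

end CfsgLib.Perm.JordanSmall
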