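import Cfsg.Agent.Lib.Perm.JordanSmall.Minimal

/-!
# A Jordan set whose fixing group is regular on it

In a four-fold transitive group all whose nontrivial elements move at least `m` points, a set of `m ≥ 4` points
with `2 m + 1 ≤ n` has no transitive pointwise stabilizer of its complement.
-/

set_option autoImplicit false

namespace CfsgLib.Perm.JordanSmall

open Equiv Finset
open scoped Classical

variable {α : Type*} [Fintype α] {P : Subgroup (Perm α)}

/-- The elements of `P` fixing everything outside `Γ` are transitive on `Γ`. -/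
def JordanTrans (P : Subgroup (Perm α)) (Γ : Finset α) : Prop :=
  ∀ a ∈ Γ, ∀ b ∈ Γ, ∃ h ∈ P, (∀ v ∉ Γ, h v = v) ∧ h a = b

/-- The nontrivial elements of `P` fixing everything outside `Γ`. -/
noncomputable def movers (P : Subgroup (Perm α)) (Γ : Finset α) : Finset (Perm α) :=
  (elems P).filter fun h => h ≠ 1 ∧ ∀ v ∉ Γ, h v = v

omit [Fintype α] in
theorem fixes_inv {Γ : Finset α} {h : Perm α} (hh : ∀ v ∉ Γ, h v = v) :
    ∀ v ∉ Γ, h⁻¹ v = v :=
  fun v hv => Perm.inv_eq_iff_eq.2 (hh v hv).symm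

omit [Fintype α] in
theorem apply_mem {Γ : Finset α} {h : Perm α} (hh : ∀ v ∉ Γ, h v = v) {v : α} (hv : v ∈ Γ) :
    h v ∈ Γ := by
  by_contra hc
  have : h v = v := h.injective (hh _ hc)
  exact hc (this.symm ▸ hv)

omit [Fintype α] in
theorem JordanTrans.conj {Γ : Finset α} (hJ : JordanTrans P Γ) {g : Perm α} (hg : g ∈ P) :
    JordanTrans P (Γ.image g) := by
  intro a' ha' b' hb'
  obtain ⟨a, ha, rfl⟩ := mem_image.1 ha'
  obtain ⟨b, hb, rfl⟩ := mem_image.1 hb'
  obtain ⟨h, hhP, hfix, hab⟩ := hJ a ha b hb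
  refine ⟨g * h * g⁻¹, mul_mem (mul_mem hg hhP) (inv_mem hg), fun v hv => ?_, ?_⟩
  · have : g⁻¹ v ∉ Γ := fun hc => hv (mem_image.2 ⟨_, hc, apply_inv_apply g v⟩)
    rw [Perm.mul_apply, Perm.mul_apply, hfix _ this, apply_inv_apply]
  · rw [Perm.mul_apply, Perm.mul_apply, inv_apply_apply, hab]

section regular

variable {Γ : Finset α} (hmin : ∀ h ∈ P, h ≠ 1 → Γ.card ≤ h.support.card)

include hmin

/-- A nontrivial element fixing the complement moves every point of `Γ`. -/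
theorem movers_apply_ne {h : Perm α} (hh : h ∈ movers P Γ) {v : α} (hv : v ∈ Γ) : h v ≠ v := by
  simp only [movers, mem_filter, mem_elems] at hh
  obtain ⟨hP, h1, hfix⟩ := hh
  intro hc
  have hsub : h.support ⊆ Γ.erase v := by
    intro w hw
    rw [Perm.mem_support] at hw
    exact mem_erase.2 ⟨fun hwv => hw (hwv ▸ hc), by_contra fun hw' => hw (hfix w hw')⟩
  have := (hmin h hP h1).trans (card_le_card hsub)
  rw [card_erase_of_mem hv] at this
  have : 0 < Γ.card := card_pos.2 ⟨v, hv⟩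
  omega

/-- Two elements fixing the complement and agreeing at a point of `Γ` are equal. -/
theorem eq_of_fix {h k : Perm α} (hh : h ∈ P) (hk : k ∈ P) (hhf : ∀ v ∉ Γ, h v = v)
    (hkf : ∀ v ∉ Γ, k v = v) {v : α} (hv : v ∈ Γ) (heq : h v = k v) : h = k := by
  by_contra hne
  refine movers_apply_ne hmin (h := k⁻¹ * h) ?_ hv ?_
  · simp only [movers, mem_filter, mem_elems]
    refine ⟨mul_mem (inv_mem hk) hh, fun hc => hne (inv_mul_eq_one.1 hc).symm, fun w hw => ?_⟩
    rw [Perm.mul_apply, hhf w hw, fixes_inv hkf w hw]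
  · rw [Perm.mul_apply, heq, inv_apply_apply]

/-- The movers sending `p` into a set missing `p` correspond to the points of this set in `Γ`. -/
theorem card_movers_filter (hJ : JordanTrans P Γ) {p : α} (hp : p ∈ Γ) {X : Finset α}
    (hXΓ : X ⊆ Γ) (hpX : p ∉ X) : ((movers P Γ).filter fun h => h p ∈ X).card = X.card := by
  refine card_bij (fun h _ => h p) (fun h hh => (mem_filter.1 hh).2) ?_ ?_
  · intro h hh k hk heq
    simp only [mem_filter, movers, mem_elems] at hh hk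
    exact eq_of_fix hmin hh.1.1 hk.1.1 hh.1.2.2 hk.1.2.2 hp heq
  · intro q hq
    obtain ⟨h, hhP, hfix, hpq⟩ := hJ p hp q (hXΓ hq)
    refine ⟨h, mem_filter.2 ⟨?_, hpq.symm ▸ hq⟩, hpq⟩
    simp only [movers, mem_filter, mem_elems]
    exact ⟨hhP, fun hc => hpX (by rw [hc, Perm.one_apply] at hpq; exact hpq.symm ▸ hq), hfix⟩

theorem card_movers (hJ : JordanTrans P Γ) (h0 : Γ.Nonempty) :
    (movers P Γ).card = Γ.card - 1 := by
  obtain ⟨p, hp⟩ := h0
  rw [← card_erase_of_mem hp, ← card_movers_filter hmin hJ hp (erase_subset p Γ) (notMem_erase p Γ)]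
  refine congrArg card (filter_true_of_mem fun h hh => mem_erase.2 ⟨movers_apply_ne hmin hh hp, ?_⟩).symm
  simp only [movers, mem_filter] at hh
  exact apply_mem hh.2.2 hp

end regular

/-- Two Jordan sets with regular groups meet in none, or in at least `(m - 1) / 2` points. -/
theorem jordan_pair_bound {Γ Δ : Finset α} (hΔ : Δ.card = Γ.card)
    (hmin : ∀ h ∈ P, h ≠ 1 → Γ.card ≤ h.support.card) (hJ : JordanTrans P Γ)
    (hJ' : JordanTrans P Δ) (hne : (Γ ∩ Δ).Nonempty) : Γ.card ≤ 2 * (Γ ∩ Δ).card + 1 := by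
  have hmin' : ∀ h ∈ P, h ≠ 1 → Δ.card ≤ h.support.card := by rwa [hΔ]
  set m := Γ.card with hm
  set Z := Γ ∩ Δ with hZ
  by_contra hlt
  obtain ⟨p₀, hp₀⟩ := hne
  obtain ⟨hp₀Γ, hp₀Δ⟩ := mem_inter.1 hp₀
  have hZΓ : Z ⊆ Γ := inter_subset_left
  have hZm : Z.card ≤ m := card_le_card hZΓ
  have hΓd : (Γ \ Δ).card = m - Z.card := by
    rw [← sdiff_inter_self_left, card_sdiff_of_subset hZΓ]
  have hΔd : (Δ \ Γ).card = m - Z.card := by
    rw [← sdiff_inter_self_left, card_sdiff_of_subset inter_subset_left, inter_comm, hΔ]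
  have hxf : ∀ x ∈ movers P Γ, x ∈ P ∧ ∀ v ∉ Γ, x v = v := fun x hx => by
    simp only [movers, mem_filter, mem_elems] at hx
    exact ⟨hx.1, hx.2.2⟩
  have hyf : ∀ y ∈ movers P Δ, y ∈ P ∧ ∀ v ∉ Δ, y v = v := fun y hy => by
    simp only [movers, mem_filter, mem_elems] at hy
    exact ⟨hy.1, hy.2.2⟩
  -- commutators of noncommuting pairs move at least `m` points
  have hpair : ∀ x ∈ movers P Γ, ∀ y ∈ movers P Δ, x * y ≠ y * x →
      m ≤ Z.card + (Z.filter fun v => x v ∉ Δ).card + (Z.filter fun v => y v ∉ Γ).card := by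
    intro x hx y hy hxy
    obtain ⟨hxP, hxΓ⟩ := hxf x hx
    obtain ⟨hyP, hyΔ⟩ := hyf y hy
    refine (hmin (x * y * x⁻¹ * y⁻¹)
      (mul_mem (mul_mem (mul_mem hxP hyP) (inv_mem hxP)) (inv_mem hyP)) fun h1 => hxy ?_).trans ?_
    · rw [mul_inv_eq_one, mul_inv_eq_iff_eq_mul] at h1
      exact h1
    · refine (card_le_card (support_comm_subset hxΓ hyΔ)).trans ?_
      refine (card_union_le _ _).trans (add_le_add ((card_union_le _ _).trans
        (add_le_add (card_filter_le _ _) card_image_le)) card_image_le)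
  by_cases hA : ∃ x ∈ movers P Γ, ∀ v ∈ Z, x v ∈ Δ
  · obtain ⟨x, hx, hxZ⟩ := hA
    obtain ⟨hxP, hxΓ⟩ := hxf x hx
    obtain ⟨q, hq⟩ : (Δ \ Γ).Nonempty := card_pos.1 (by omega)
    obtain ⟨hqΔ, hqΓ⟩ := mem_sdiff.1 hq
    obtain ⟨y, hyP, hyΔ, hyp⟩ := hJ' p₀ hp₀Δ q hqΔ
    have hy1 : y ≠ 1 := by
      rintro rfl
      rw [Perm.one_apply] at hyp
      exact hqΓ (hyp ▸ hp₀Γ)
    have hy : y ∈ movers P Δ := by
      simp only [movers, mem_filter, mem_elems]
      exact ⟨hyP, hy1, hyΔ⟩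
    have hne' : x * y ≠ y * x := fun h => by
      have h2 := congrArg (fun f : Perm α => f p₀) h
      simp only [Perm.mul_apply, hyp, hxΓ q hqΓ] at h2
      exact movers_apply_ne hmin hx hp₀Γ (y.injective (h2.symm.trans hyp.symm))
    have h3 := hpair x hx y hy hne'
    rw [filter_eq_empty_iff.2 (fun v hv h => h (hxZ v hv)), card_empty] at h3
    have := card_filter_le Z fun v => y v ∉ Γ
    omega
  · push Not at hA
    have hall : ∀ x ∈ movers P Γ, ∀ y ∈ movers P Δ, x * y ≠ y * x := by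
      intro x hx y hy h
      obtain ⟨v, hv, hxv⟩ := hA x hx
      obtain ⟨-, hyΔ⟩ := hyf y hy
      have h2 := congrArg (fun f : Perm α => f v) h
      simp only [Perm.mul_apply, hyΔ _ hxv] at h2
      exact movers_apply_ne hmin' hy (mem_inter.1 hv).2 (x.injective h2)
    have hSA : ∑ x ∈ movers P Γ, (Z.filter fun v => x v ∉ Δ).card = Z.card * (m - Z.card) := by
      rw [sum_card_filter (movers P Γ) Z (fun x v => x v ∉ Δ), ← smul_eq_mul, ← sum_const]
      refine sum_congr rfl fun v hv => ?_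
      rw [← hΓd, ← card_movers_filter hmin hJ (hZΓ hv) sdiff_subset
        (fun h => (mem_sdiff.1 h).2 (mem_inter.1 hv).2)]
      refine congrArg card (filter_congr fun x hx => ?_)
      exact ⟨fun h => mem_sdiff.2 ⟨apply_mem (hxf x hx).2 (hZΓ hv), h⟩, fun h => (mem_sdiff.1 h).2⟩
    have hSB : ∑ y ∈ movers P Δ, (Z.filter fun v => y v ∉ Γ).card = Z.card * (m - Z.card) := by
      rw [sum_card_filter (movers P Δ) Z (fun y v => y v ∉ Γ), ← smul_eq_mul, ← sum_const]
      refine sum_congr rfl fun v hv => ?_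
      rw [← hΔd, ← card_movers_filter hmin' hJ' (mem_inter.1 hv).2 sdiff_subset
        (fun h => (mem_sdiff.1 h).2 (hZΓ hv))]
      refine congrArg card (filter_congr fun y hy => ?_)
      exact ⟨fun h => mem_sdiff.2 ⟨apply_mem (hyf y hy).2 (mem_inter.1 hv).2, h⟩,
        fun h => (mem_sdiff.1 h).2⟩
    have hΓne : Γ.Nonempty := ⟨p₀, hp₀Γ⟩
    have hsum := sum_le_sum (s := movers P Γ) fun x hx =>
      sum_le_sum (s := movers P Δ) fun y hy => hpair x hx y hy (hall x hx y hy)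
    simp only [sum_add_distrib, sum_const, smul_eq_mul, hSB, ← mul_sum, hSA,
      card_movers hmin hJ hΓne, card_movers hmin' hJ' ⟨p₀, hp₀Δ⟩, hΔ, ← hm] at hsum
    have hmZ : 1 ≤ Z.card := card_pos.2 ⟨p₀, hp₀⟩
    obtain ⟨j, hj⟩ := Nat.exists_eq_add_of_le hZm
    rw [hj, Nat.add_sub_cancel_left] at hsum
    obtain ⟨i, hi⟩ : ∃ i, Z.card + j = i + 1 := ⟨Z.card + j - 1, by omega⟩
    rw [hi, Nat.add_sub_cancel] at hsum
    have hlt' : 2 * Z.card + 1 ≤ i := by omega
    have hij : 0 < i * j := Nat.mul_pos (by omega) (by omega)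
    have h6 := congrArg (fun t => t * (i * i)) hi
    have h7 := Nat.mul_le_mul_left (i * j) hlt'
    ring_nf at hsum h6 h7 hij
    nlinarith

omit [Fintype α] in
/-- Triples of distinct points with a property. -/
theorem falling_three (S : Finset α) (p : α → Prop) [DecidablePred p] :
    (S.filter p).card * ((S.filter p).card - 1) * ((S.filter p).card - 2) =
      ∑ u ∈ S, ∑ v ∈ S.erase u,
        (((S.erase u).erase v).filter fun w => p u ∧ p v ∧ p w).card := by
  rw [mul_assoc, ← smul_eq_mul, ← sum_const, sum_filter]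
  refine sum_congr rfl fun u hu => ?_
  split_ifs with hpu
  · rw [← card_erase_of_mem (mem_filter.2 ⟨hu, hpu⟩), ← smul_eq_mul, ← sum_const, ← filter_erase,
      sum_filter]
    refine sum_congr rfl fun v hv => ?_
    split_ifs with hpv
    · simp only [hpu, hpv, true_and]
      rw [filter_erase _ v, card_erase_of_mem (mem_filter.2 ⟨hv, hpv⟩), filter_erase,
        card_erase_of_mem (mem_filter.2 ⟨hu, hpu⟩), Nat.sub_sub]
    · simp [hpv]
  · simp [hpu]

omit [Fintype α] in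
/-- Pairs of distinct points with a property. -/
theorem falling_two (S : Finset α) (p : α → Prop) [DecidablePred p] :
    (S.filter p).card * ((S.filter p).card - 1) =
      ∑ u ∈ S, ((S.erase u).filter fun w => p u ∧ p w).card := by
  rw [← smul_eq_mul, ← sum_const, sum_filter]
  refine sum_congr rfl fun u hu => ?_
  split_ifs with hpu
  · simp only [hpu, true_and]
    rw [filter_erase, card_erase_of_mem (mem_filter.2 ⟨hu, hpu⟩)]
  · simp [hpu]

omit [Fintype α] in
/-- Counting by the image of a point. -/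
theorem card_filter_fiber {T : Finset (Perm α)} {v : α} {X : Finset α} {c : ℕ}
    (Q : Perm α → Prop) [DecidablePred Q]
    (h : ∀ v' ∈ X, ((T.filter fun g => g v = v').filter Q).card = c) :
    (T.filter fun g => g v ∈ X ∧ Q g).card = X.card * c := by
  rw [card_eq_sum_card_fiberwise (s := T.filter fun g => g v ∈ X ∧ Q g) (f := fun g : Perm α => g v)
    (t := X) (fun g hg => (mem_filter.1 hg).2.1), ← smul_eq_mul, ← sum_const]
  refine sum_congr rfl fun v' hv' => ?_
  rw [← h v' hv', filter_filter, filter_filter]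
  refine congrArg card (filter_congr fun g _ => ?_)
  exact ⟨fun hg => ⟨hg.2, hg.1.2⟩, fun hg => ⟨⟨hg.1 ▸ hv', hg.2⟩, hg.1⟩⟩

/-- Some element taking `a` to itself takes few of the points of `Γ` back into `Γ`. -/
theorem exists_small_overlap (hM : MoveFour P) {Γ : Finset α} (hm : 4 ≤ Γ.card)
    (hn : 2 * Γ.card + 1 ≤ Fintype.card α) {a : α} (ha : a ∈ Γ) :
    ∃ g ∈ P, g a = a ∧ 2 * (Γ.filter fun v => g v ∈ Γ).card + 1 < Γ.card := by
  by_contra hcon
  push Not at hcon
  obtain ⟨e, hC⟩ := exists_counts hM (by omega)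
  set m := Γ.card with hm'
  set n := Fintype.card α with hn'
  set T := hit1 P a a with hT
  set S := Γ.erase a with hS
  have hSc : S.card = m - 1 := card_erase_of_mem ha
  have hCc : Γᶜ.card = n - m := card_compl Γ
  have haC : a ∉ Γᶜ := fun h => mem_compl.1 h ha
  have hTc : T.card = (n - 1) * ((n - 2) * ((n - 3) * e)) := hC.one a a
  -- `J g` points of `S` leave `Γ`
  set J : Perm α → ℕ := fun g => (S.filter fun v => g v ∈ Γᶜ).card with hJ
  have hJle : ∀ g ∈ T, 2 * J g ≤ m + 1 := by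
    intro g hg
    simp only [hT, hit1, mem_filter, mem_elems] at hg
    have h1 := hcon g hg.1 hg.2
    have h2 : J g + (Γ.filter fun v => g v ∈ Γ).card = m := by
      rw [hm', ← card_filter_add_card_filter_not (s := Γ) (fun v => g v ∈ Γ), add_comm, hJ]
      congr 1
      refine congrArg card (Finset.ext fun v => ?_)
      simp only [hS, mem_filter, mem_erase, mem_compl]
      exact ⟨fun h => ⟨h.1.2, h.2⟩, fun h => ⟨⟨fun hv => h.2 (by rw [hv, hg.2]; exact ha), h.1⟩, h.2⟩⟩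
    omega
  have hpt : ∀ g ∈ T, 2 * (J g * (J g - 1) * (J g - 2)) + (m + 1) * J g ≤
      (m - 1) * (J g * (J g - 1)) + (m + 1) := by
    intro g hg
    obtain ⟨k, hk⟩ := Nat.exists_eq_add_of_le (hJle g hg)
    rcases h : J g with _ | _ | j
    · simp
    · simp
    · rw [h] at hk
      rw [show j + 1 + 1 - 1 = j + 1 from rfl, show j + 1 + 1 - 2 = j from rfl,
        show m - 1 = m + 1 - 2 from by omega, hk,
        show 2 * (j + 1 + 1) + k - 2 = 2 * j + 2 + k from by omega]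
      have := Nat.zero_le (k * ((j + 1) * (j + 1)))
      ring_nf at this ⊢
      omega
  have hsum := sum_le_sum hpt
  -- the moments
  have hF1 : ∑ g ∈ T, J g = (m - 1) * ((n - m) * ((n - 2) * ((n - 3) * e))) := by
    rw [hJ, sum_card_filter T S (fun g v => g v ∈ Γᶜ), ← hSc, ← smul_eq_mul, ← sum_const]
    refine sum_congr rfl fun u hu => ?_
    obtain ⟨hua, huΓ⟩ := mem_erase.1 hu
    rw [card_eq_sum_card_fiberwise (s := T.filter fun g => g u ∈ Γᶜ) (f := fun g : Perm α => g u)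
      (t := Γᶜ) (fun g hg => (mem_filter.1 hg).2), ← hCc, ← smul_eq_mul, ← sum_const]
    refine sum_congr rfl fun u' hu' => ?_
    rw [← hC.two a u a u' (Ne.symm hua) (fun h => haC (h.symm ▸ hu')), hit2, filter_filter]
    exact congrArg card (filter_congr fun g _ => ⟨fun h => h.2, fun h => ⟨h.symm ▸ hu', h⟩⟩)
  have hF2 : ∑ g ∈ T, J g * (J g - 1) =
      (m - 1) * ((m - 2) * ((n - m) * ((n - m - 1) * ((n - 3) * e)))) := by
    rw [hJ, sum_congr rfl fun g _ => falling_two S (fun v => g v ∈ Γᶜ), sum_comm, ← hSc,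
      ← smul_eq_mul, ← sum_const]
    refine sum_congr rfl fun u hu => ?_
    obtain ⟨hua, huΓ⟩ := mem_erase.1 hu
    rw [sum_card_filter T (S.erase u) (fun g w => g u ∈ Γᶜ ∧ g w ∈ Γᶜ),
      show m - 2 = (S.erase u).card from by rw [card_erase_of_mem hu, hSc]; omega,
      ← smul_eq_mul, ← sum_const]
    refine sum_congr rfl fun w hw => ?_
    obtain ⟨hwu, hwS⟩ := mem_erase.1 hw
    obtain ⟨hwa, hwΓ⟩ := mem_erase.1 hwS
    rw [← hCc]
    refine card_filter_fiber (fun g => g w ∈ Γᶜ) fun u' hu' => ?_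
    rw [← card_erase_of_mem hu', ← card_hit2_one hC (P := P) (a := a) (b := u) (a' := a) (b' := u') (v := w)
      (fun h => haC (h.symm ▸ hu')) (by simp; exact ⟨⟨hua.symm, hwa.symm⟩, hwu.symm⟩)
      (X := Γᶜ.erase u') ⟨fun h => haC (mem_of_mem_erase h), notMem_erase _ _⟩, hit2]
    refine congrArg card (filter_congr fun g hg => ?_)
    obtain ⟨-, hgu⟩ := mem_filter.1 hg
    exact ⟨fun h => mem_erase.2 ⟨fun hc => hwu (g.injective (hc.trans hgu.symm)), h⟩,
      fun h => mem_of_mem_erase h⟩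
  have hF3 : ∑ g ∈ T, J g * (J g - 1) * (J g - 2) =
      (m - 1) * ((m - 2) * ((m - 3) * ((n - m) * ((n - m - 1) * ((n - m - 2) * e))))) := by
    rw [hJ, sum_congr rfl fun g _ => falling_three S (fun v => g v ∈ Γᶜ), sum_comm, ← hSc,
      ← smul_eq_mul, ← sum_const]
    refine sum_congr rfl fun u hu => ?_
    obtain ⟨hua, huΓ⟩ := mem_erase.1 hu
    rw [sum_comm, show m - 2 = (S.erase u).card from by rw [card_erase_of_mem hu, hSc]; omega,
      ← smul_eq_mul, ← sum_const]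
    refine sum_congr rfl fun v hv => ?_
    obtain ⟨hvu, hvS⟩ := mem_erase.1 hv
    obtain ⟨hva, hvΓ⟩ := mem_erase.1 hvS
    rw [sum_card_filter T ((S.erase u).erase v) (fun g w => g u ∈ Γᶜ ∧ g v ∈ Γᶜ ∧ g w ∈ Γᶜ),
      show m - 3 = ((S.erase u).erase v).card from by
        rw [card_erase_of_mem hv, card_erase_of_mem hu, hSc]; omega,
      ← smul_eq_mul, ← sum_const]
    refine sum_congr rfl fun w hw => ?_
    obtain ⟨hwv, hwS'⟩ := mem_erase.1 hw
    obtain ⟨hwu, hwS⟩ := mem_erase.1 hwS'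
    obtain ⟨hwa, hwΓ⟩ := mem_erase.1 hwS
    rw [← hCc]
    refine card_filter_fiber (fun g => g v ∈ Γᶜ ∧ g w ∈ Γᶜ) fun u' hu' => ?_
    have hau' : a ≠ u' := fun h => haC (h.symm ▸ hu')
    rw [show (T.filter fun g => g u = u') = hit2 P a u a u' from rfl,
      show (hit2 P a u a u').filter (fun g => g v ∈ Γᶜ ∧ g w ∈ Γᶜ) =
        (hit2 P a u a u').filter (fun g => g v ∈ Γᶜ.erase u' ∧ g w ∈ Γᶜ) from filter_congr fun g hg => by
          obtain ⟨-, hgu⟩ := mem_filter.1 hg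
          exact ⟨fun h => ⟨mem_erase.2 ⟨fun hc => hvu (g.injective (hc.trans hgu.symm)), h.1⟩, h.2⟩,
            fun h => ⟨mem_of_mem_erase h.1, h.2⟩⟩,
      ← card_erase_of_mem hu']
    refine card_filter_fiber (fun g => g w ∈ Γᶜ) fun v' hv' => ?_
    obtain ⟨hv'u', hv'C⟩ := mem_erase.1 hv'
    have hav' : a ≠ v' := fun h => haC (h.symm ▸ hv'C)
    rw [show Γᶜ.card - 2 = ((Γᶜ.erase u').erase v').card from by
        rw [card_erase_of_mem hv', card_erase_of_mem hu']; omega, ← smul_eq_mul, ← sum_const,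
      card_eq_sum_card_fiberwise
        (s := ((hit2 P a u a u').filter fun g => g v = v').filter fun g => g w ∈ Γᶜ)
        (f := fun g : Perm α => g w) (t := (Γᶜ.erase u').erase v') fun g hg => ?_]
    · refine sum_congr rfl fun w' hw' => ?_
      obtain ⟨hw'v', hw'e⟩ := mem_erase.1 hw'
      obtain ⟨hw'u', hw'C⟩ := mem_erase.1 hw'e
      have haw' : a ≠ w' := fun h => haC (h.symm ▸ hw'C)
      rw [← hC.four a u v w a u' v' w'
        (by simp; exact ⟨⟨hua.symm, hva.symm, hwa.symm⟩, ⟨hvu.symm, hwu.symm⟩, hwv.symm⟩)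
        (by simp; exact ⟨⟨hau', hav', haw'⟩, ⟨hv'u'.symm, hw'u'.symm⟩, hw'v'.symm⟩), hit4, hit3,
        filter_filter (p := fun g : Perm α => g w ∈ Γᶜ)]
      exact congrArg card (filter_congr fun g _ => ⟨fun h => h.2, fun h => ⟨h.symm ▸ hw'C, h⟩⟩)
    · obtain ⟨hg', hgw⟩ := mem_filter.1 hg
      obtain ⟨hg'', hgv⟩ := mem_filter.1 hg'
      obtain ⟨-, hgu⟩ := mem_filter.1 hg''
      exact mem_erase.2 ⟨fun hc => hwv (g.injective (hc.trans hgv.symm)),
        mem_erase.2 ⟨fun hc => hwu (g.injective (hc.trans hgu.symm)), hgw⟩⟩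
  simp only [sum_add_distrib, ← mul_sum, sum_const, smul_eq_mul, hF1, hF2, hF3, hTc] at hsum
  obtain ⟨i, hi⟩ := Nat.exists_eq_add_of_le hm
  obtain ⟨d, hd⟩ := Nat.exists_eq_add_of_le hn
  have he : 0 < e := hC.pos
  have hnm : n - m = m + 1 + d := by omega
  rw [hnm, show m + 1 + d - 1 = m + d from by omega, show m + 1 + d - 2 = m + d - 1 from by omega,
    hd, hi, show 4 + i + d - 1 = 3 + i + d from by omega, show 4 + i - 1 = 3 + i from by omega,
    show 4 + i - 2 = 2 + i from by omega, show 4 + i - 3 = 1 + i from by omega,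
    show 2 * (4 + i) + 1 + d - 1 = 8 + 2 * i + d from by omega,
    show 2 * (4 + i) + 1 + d - 2 = 7 + 2 * i + d from by omega,
    show 2 * (4 + i) + 1 + d - 3 = 6 + 2 * i + d from by omega] at hsum
  have hC' : 0 < (30 + 107 * d ^ 1 + 39 * d ^ 2 + 4 * d ^ 3 + 136 * i ^ 1 +
      241 * i ^ 1 * d ^ 1 + 81 * i ^ 1 * d ^ 2 + 8 * i ^ 1 * d ^ 3 + 96 * i ^ 2 + 182 * i ^ 2 * d ^ 1 +
      58 * i ^ 2 * d ^ 2 + 5 * i ^ 2 * d ^ 3 + 24 * i ^ 3 + 68 * i ^ 3 * d ^ 1 + 18 * i ^ 3 * d ^ 2 +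
      1 * i ^ 3 * d ^ 3 + 2 * i ^ 4 + 13 * i ^ 4 * d ^ 1 + 2 * i ^ 4 * d ^ 2 + 1 * i ^ 5 * d ^ 1) * e := Nat.mul_pos (by positivity) he
  have key : (4 + i + 1) * ((8 + 2 * i + d) * ((7 + 2 * i + d) * ((6 + 2 * i + d) * e))) +
      (3 + i) * ((3 + i) * ((2 + i) * ((4 + i + 1 + d) * ((4 + i + d) * ((6 + 2 * i + d) * e))))) +
      (30 + 107 * d ^ 1 + 39 * d ^ 2 + 4 * d ^ 3 + 136 * i ^ 1 +
      241 * i ^ 1 * d ^ 1 + 81 * i ^ 1 * d ^ 2 + 8 * i ^ 1 * d ^ 3 + 96 * i ^ 2 + 182 * i ^ 2 * d ^ 1 +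
      58 * i ^ 2 * d ^ 2 + 5 * i ^ 2 * d ^ 3 + 24 * i ^ 3 + 68 * i ^ 3 * d ^ 1 + 18 * i ^ 3 * d ^ 2 +
      1 * i ^ 3 * d ^ 3 + 2 * i ^ 4 + 13 * i ^ 4 * d ^ 1 + 2 * i ^ 4 * d ^ 2 + 1 * i ^ 5 * d ^ 1) * e =
      2 * ((3 + i) * ((2 + i) * ((1 + i) * ((4 + i + 1 + d) * ((4 + i + d) * ((3 + i + d) * e)))))) +
      (4 + i + 1) * ((3 + i) * ((4 + i + 1 + d) * ((7 + 2 * i + d) * ((6 + 2 * i + d) * e)))) := by ring
  linarith

/-- No Jordan set when every nontrivial element moves at least as many points. -/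
theorem false_of_regular (hM : MoveFour P) {Γ : Finset α} (hm : 4 ≤ Γ.card)
    (hn : 2 * Γ.card + 1 ≤ Fintype.card α)
    (hmin : ∀ h ∈ P, h ≠ 1 → Γ.card ≤ h.support.card) (hJ : JordanTrans P Γ) : False := by
  obtain ⟨a, ha⟩ := card_pos.1 (show 0 < Γ.card by omega)
  obtain ⟨g, hgP, hga, hlt⟩ := exists_small_overlap hM hm hn ha
  have hcard : (Γ ∩ Γ.image g).card = (Γ.filter fun v => g v ∈ Γ).card := by
    rw [← card_image_of_injective (Γ.filter fun v => g v ∈ Γ) g.injective]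
    refine congrArg card (Finset.ext fun p => ?_)
    simp only [mem_inter, mem_image, mem_filter]
    constructor
    · rintro ⟨hp, v, hv, rfl⟩; exact ⟨v, ⟨hv, hp⟩, rfl⟩
    · rintro ⟨v, ⟨hv, hgv⟩, rfl⟩; exact ⟨hgv, v, hv, rfl⟩
  have := jordan_pair_bound (card_image_of_injective Γ g.injective) hmin hJ (hJ.conj hgP)
    ⟨a, mem_inter.2 ⟨ha, mem_image.2 ⟨a, ha, hga⟩⟩⟩
  omega

end CfsgLib.Perm.JordanSmall
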